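import Groth.Agent.H23.C1Class
import Groth.Agent.H23.C1Pull
import Groth.Agent.H23.RatSecTensor
import Groth.Agent.H23.SecIso
import Groth.Agent.H23.PicMul
import Groth.Agent.H23.ProjBd.Ops

/-!
# The first Chern class cap on cycles, modulo rational equivalence
-/

set_option autoImplicit false
set_option linter.style.haveILetI false
set_option linter.unusedSectionVars false
set_option linter.overlappingInstances false
set_option backward.isDefEq.respectTransparency false
set_option backward.isDefEq.respectTransparency.types false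

universe u

open CategoryTheory CategoryTheory.Limits AlgebraicGeometry TopologicalSpace

noncomputable section

namespace Groth.Agent.H28.PnCyc

open Groth.Agent Groth.Agent.H23 Groth.Agent.H23.ProjBd RatSec

variable {X : Scheme.{u}} [IsLocallyNoetherian X] {δ : X → ℤ} (hd : Cyc.IsDimFun X δ)
  {L N : X.Modules}

/-- The cap with `c₁`. -/
def capC (hL : PicF.IsInvertible L) (α : AlgebraicCycle X ℤ) : AlgebraicCycle X ℤ :=
  c1CapCycle hL hd α (exists_sections hL).choose (exists_sections hL).choose_spec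

theorem coe_capC (hL : PicF.IsInvertible L) (α : AlgebraicCycle X ℤ) :
    ⇑(capC hd hL α) = Cyc.c1CapFun δ L ⇑α (exists_sections hL).choose :=
  coe_c1CapCycle hL hd α _ _

theorem capC_mem (hL : PicF.IsInvertible L) {j : ℤ} {α : AlgebraicCycle X ℤ} (hα : α ∈ Cyc.Zk X δ j) :
    capC hd hL α ∈ Cyc.Zk X δ (j - 1) :=
  C1Class.capCycle_mem hL hd hα _ _

theorem ratEquiv_capC_sec (hL : PicF.IsInvertible L) {j : ℤ} {α : AlgebraicCycle X ℤ} (hα : α ∈ Cyc.Zk X δ j)
    {v : (ξ : X) → Cyc.secFibre L ξ} (hv : ∀ ξ, v ξ ≠ 0) {γ : AlgebraicCycle X ℤ}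
    (hγ : ⇑γ = Cyc.c1CapFun δ L ⇑α v) : Cyc.RatEquiv δ (j - 1) γ (capC hd hL α) :=
  ratEquiv_c1Cap hL hd (α := ⇑α) (fun ξ hξ => hα ξ (by omega)) (GysinLib.locFin α) hv
    (exists_sections hL).choose_spec hγ (coe_capC hd hL α)

theorem capC_iso (hL : PicF.IsInvertible L) (hN : PicF.IsInvertible N) (e : L ≅ N) {j : ℤ}
    {α : AlgebraicCycle X ℤ} (hα : α ∈ Cyc.Zk X δ j) :
    Cyc.RatEquiv δ (j - 1) (capC hd hL α) (capC hd hN α) :=
  ratEquiv_capC_sec hd hN hα (mapSec_ne_zero e (exists_sections hL).choose_spec)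
    ((coe_capC hd hL α).trans (c1CapFun_mapSec e hL hN hd ⇑α (exists_sections hL).choose_spec).symm)

theorem capC_tensor (hL : PicF.IsInvertible L) (hN : PicF.IsInvertible N) {j : ℤ} {α : AlgebraicCycle X ℤ}
    (hα : α ∈ Cyc.Zk X δ j) :
    Cyc.RatEquiv δ (j - 1) (capC hd hL α + capC hd hN α) (capC hd (InvX.isInvertible_tensorMod hL hN) α) :=
  RatSecTensor.ratEquiv_c1Cap_tensor hL hN hd (α := ⇑α) (fun ξ hξ => hα ξ (by omega)) (GysinLib.locFin α)
    (exists_sections hL).choose_spec (exists_sections hN).choose_spec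
    (exists_sections (InvX.isInvertible_tensorMod hL hN)).choose_spec
    (coe_capC hd hL α) (coe_capC hd hN α) (coe_capC hd _ α)

theorem capC_pow (hL : PicF.IsInvertible L) {j : ℤ} {α : AlgebraicCycle X ℤ} (hα : α ∈ Cyc.Zk X δ j) :
    ∀ (d : ℕ) (hd' : PicF.IsInvertible (CohB1.tensorPow L d)),
      Cyc.RatEquiv δ (j - 1) (capC hd hd' α) ((d : ℤ) • capC hd hL α) := by
  intro d
  induction d with
  | zero =>
    intro h0
    have h1 := capC_tensor hd h0 h0 hα
    have h2 := capC_iso hd (InvX.isInvertible_tensorMod h0 h0) h0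
      (KFlatLib.tensorUnitIso (Coh.structureModule X)) hα
    have h3 := RatOn.trans hd h1 h2
    rw [Cyc.RatEquiv, add_sub_cancel_right] at h3
    rw [Cyc.RatEquiv, Nat.cast_zero, zero_smul, sub_zero]
    exact h3
  | succ d ih =>
    intro hs
    have hp : PicF.IsInvertible (CohB1.tensorPow L d) := PicMul.isInvertible_tensorPow hL d
    have h1 := (ratZero hd (j - 1)).sub_mem (show _ ∈ ratZero hd (j - 1) from ih hp)
      (show _ ∈ ratZero hd (j - 1) from capC_tensor hd hp hL hα)
    rw [show capC hd hp α - (d : ℤ) • capC hd hL α -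
        (capC hd hp α + capC hd hL α - capC hd (InvX.isInvertible_tensorMod hp hL) α) =
        capC hd hs α - ((d + 1 : ℕ) : ℤ) • capC hd hL α by
      push_cast
      rw [add_smul, one_smul]
      abel] at h1
    exact h1

variable {X' : Scheme.{u}} [IsLocallyNoetherian X'] (p : X' ⟶ X) [Flat p] [LocallyOfFiniteType p] {δ' : X' → ℤ}
  (hd' : Cyc.IsDimFun X' δ') {c : ℤ} (hc : FlatShift.HasShift p δ' δ c)

/-- The flat pullback of a cycle. -/
def pullC (α : AlgebraicCycle X ℤ) : AlgebraicCycle X' ℤ where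
  toFun := Cyc.pullFun p δ' δ c ⇑α
  supportWithinDomain' := fun _ _ => trivial
  supportLocallyFiniteWithinDomain' := fun z _ => C1Pull.locFin_pullFun hc hd' (GysinLib.locFin α) z

theorem capC_pull (hL : PicF.IsInvertible L) (hL' : PicF.IsInvertible ((Scheme.Modules.pullback p).obj L)) {j : ℤ}
    {α : AlgebraicCycle X ℤ} (hα : α ∈ Cyc.Zk X δ j) :
    Cyc.RatEquiv δ' (j + c - 1) (pullC p hd' hc (capC hd hL α)) (capC hd' hL' (pullC p hd' hc α)) :=
  C1Pull.ratEquiv_pull hL hL' hc hd hd' α hα (exists_sections hL).choose_spec (exists_sections hL').choose_spec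
    (congrArg (Cyc.pullFun p δ' δ c) (coe_capC hd hL α)) (coe_capC hd' hL' (pullC p hd' hc α))

end Groth.Agent.H28.PnCyc

end
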