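import Groth.Agent.H28.PnCyc.ProdBasis
import Groth.Agent.H28.PnCyc.CapTools
import Groth.Agent.H28.ProdCl.Basic
import Groth.Agent.H23.PnChart
import Groth.Agent.S1923
import Groth.Agent.LinSerLib.Morphism

/-!
# Divisors on a product of two projective spaces
-/

set_option autoImplicit false
set_option linter.style.haveILetI false
set_option linter.unusedSectionVars false
set_option linter.overlappingInstances false
set_option backward.isDefEq.respectTransparency false
set_option backward.isDefEq.respectTransparency.types false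

universe u

open CategoryTheory CategoryTheory.Limits AlgebraicGeometry TopologicalSpace Opposite

noncomputable section

namespace Groth.Agent.H28.PnCyc

open Groth.Agent Groth.Agent.H23 Groth.Agent.H23.ProjBd RatSec

attribute [local instance] MvPolynomial.gradedAlgebra

variable {k : Type u} [Field k] {r s : ℕ}

attribute [local instance] PicMul.clMonoid in
theorem nonempty_pullback_tensorPow {X Y : Scheme.{u}} (f : Y ⟶ X) (L : X.Modules) (t : ℕ) :
    Nonempty ((Scheme.Modules.pullback f).obj (CohB1.tensorPow L t) ≅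
      CohB1.tensorPow ((Scheme.Modules.pullback f).obj L) t) := by
  refine (PicGrp.cl_eq_cl_iff _ _).1 ?_
  show PicMul.pullHom f (PicF.cl (CohB1.tensorPow L t)) = _
  rw [PicMul.cl_tensorPow, map_pow, PicMul.cl_tensorPow]
  rfl

theorem twist_iso_tensorPow (n d : ℕ) :
    Nonempty (Twist.twistProjSpace n k (d : ℤ) ≅ CohB1.tensorPow (Twist.twistProjSpace n k 1) d) :=
  PnCoh.Finite.twist_tensorPow_iso (𝒜 := CohB1.polyGrading n k)
    (fun i : Fin (n + 1) => (MvPolynomial.X i : MvPolynomial (Fin (n + 1)) k)) (fun i => ProjPt.X_mem i) iSup_D d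

theorem isInvertible_twist (n : ℕ) (d : ℤ) : PicF.IsInvertible (Twist.twistProjSpace n k d) :=
  PnCoh.Finite.isInvertible_twist (𝒜 := CohB1.polyGrading n k)
    (fun i : Fin (n + 1) => (MvPolynomial.X i : MvPolynomial (Fin (n + 1)) k)) (fun i => ProjPt.X_mem i) iSup_D d

theorem pt_eq : ⇑(pt k) = Cyc.subschemeFun (fun _ => (0 : ℤ)) 0 (𝟙 (Spec (CommRingCat.of k))) := by
  classical
  haveI := FibDim.subsingleton_spec_field k
  funext z
  rw [DegTaut.subschemeFun_id_integral (CycLib.isSetup_spec_field k).2.2 rfl z,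
    if_pos (Subsingleton.elim _ _), pt_apply]

variable {δ : PP k r s → ℤ}
  (hδ : Cyc.DeltaCompat (pullback.fst (CohB1.ProjSpace.toSpec r k) (CohB1.ProjSpace.toSpec s k) ≫
    CohB1.ProjSpace.toSpec r k) δ (fun _ => 0))

theorem gen_zero_eq [IsIntegral (CohB1.ProjSpace r k)] :
    ⇑(gen (hdl (k := k) (r := r)) 0) = Cyc.subschemeFun (dl k r) (r : ℤ) (𝟙 (CohB1.ProjSpace r k)) := by
  have h := DegTaut.pullFun_fundamental (hasCoords k r) (isDimFun (hdl (k := k) (r := r))) (hdl (k := k) (r := r))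
    (CycLib.isSetup_spec_field k).2.2 (d := 0) rfl
  rw [zero_add, ← pt_eq] at h
  exact h

theorem delta_generic_projSpace [IsIntegral (CohB1.ProjSpace r k)] :
    dl k r (genericPoint (CohB1.ProjSpace r k)) = r :=
  (DegTaut.delta_genericPoint (hasCoords k r) (isDimFun (hdl (k := k) (r := r))) (hdl (k := k) (r := r))).trans
    (zero_add _)

include hδ in
theorem gen₂_zero_eq [IsIntegral (CohB1.ProjSpace r k)] [IsIntegral (PP k r s)] :
    ⇑(gen₂ hδ 0 0) = Cyc.subschemeFun δ ((r : ℤ) + s) (𝟙 (PP k r s)) := by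
  have h := DegTaut.pullFun_fundamental (hasCoordsX (n := s) (CohB1.ProjSpace.toSpec r k)) (isDimFunPP hδ)
    (deltaCompat_fst hdl hδ) (isDimFun (hdl (k := k) (r := r))) delta_generic_projSpace
  rw [← gen_zero_eq] at h
  exact h

include hδ in
theorem isIntegralPP [IsAlgClosed k] : IsIntegral (PP k r s) := by
  haveI := H23.PnChart.isIntegral_projSpace r k
  haveI := H23.PnChart.isIntegral_projSpace s k
  exact ProdCl.isIntegral_prod (IsPullback.of_hasPullback (CohB1.ProjSpace.toSpec r k) (CohB1.ProjSpace.toSpec s k))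

include hδ in
/-- The class of a divisor of bidegree `(d, e)`. -/
theorem bidegree_ratEquiv [IsAlgClosed k] (d e : ℕ)
    (σ : (CohB1.tensorMod ((Scheme.Modules.pullback (pullback.fst (CohB1.ProjSpace.toSpec r k) (CohB1.ProjSpace.toSpec s k))).obj (Twist.twistProjSpace r k (d : ℤ)))
        ((Scheme.Modules.pullback (pullback.snd (CohB1.ProjSpace.toSpec r k) (CohB1.ProjSpace.toSpec s k))).obj (Twist.twistProjSpace s k (e : ℤ)))).presheaf.obj (op ⊤))
    (hσ : σ ≠ 0) (ζ : AlgebraicCycle (PP k r s) ℤ)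
    (hζ : ⇑ζ = Cyc.zeroSectionFun δ ((r + s : ℕ) - 1 : ℤ)
      (CohB1.tensorMod ((Scheme.Modules.pullback (pullback.fst (CohB1.ProjSpace.toSpec r k) (CohB1.ProjSpace.toSpec s k))).obj (Twist.twistProjSpace r k (d : ℤ)))
        ((Scheme.Modules.pullback (pullback.snd (CohB1.ProjSpace.toSpec r k) (CohB1.ProjSpace.toSpec s k))).obj (Twist.twistProjSpace s k (e : ℤ)))) σ) :
    Cyc.RatEquiv δ ((r + s : ℕ) - 1 : ℤ) ζ ((d : ℤ) • gen₂ hδ 0 1 + (e : ℤ) • gen₂ hδ 1 0) := by
  classical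
  haveI := H23.PnChart.isIntegral_projSpace r k
  haveI := isIntegralPP hδ
  let p := pullback.fst (CohB1.ProjSpace.toSpec r k) (CohB1.ProjSpace.toSpec s k)
  let q := pullback.snd (CohB1.ProjSpace.toSpec r k) (CohB1.ProjSpace.toSpec s k)
  have hd := isDimFunPP hδ
  have hδ' := deltaCompat_fst (hdl (k := k) (r := r)) hδ
  have hdX := isDimFun (hdl (k := k) (r := r))
  have hh := hasCoordsX (n := s) (CohB1.ProjSpace.toSpec r k)
  haveI : Flat p := hh.flat
  have hA : PicF.IsInvertible ((Scheme.Modules.pullback p).obj (Twist.twistProjSpace r k (d : ℤ))) :=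
    PicClLib.isInvertible_pullback p (isInvertible_twist r d)
  have hB : PicF.IsInvertible ((Scheme.Modules.pullback q).obj (Twist.twistProjSpace s k (e : ℤ))) :=
    PicClLib.isInvertible_pullback q (isInvertible_twist s e)
  have hT := InvX.isInvertible_tensorMod hA hB
  have hgP : δ (genericPoint (PP k r s)) = ((r + s : ℕ) : ℤ) := by
    rw [DegTaut.delta_genericPoint hh hd hδ', delta_generic_projSpace]
    push_cast; ring
  let η := genericPoint (PP k r s)
  have hP0 : ∀ z, gen₂ hδ 0 0 z = if z = η then 1 else 0 := fun z => by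
    rw [gen₂_zero_eq hδ, DegTaut.subschemeFun_id_integral hd (by rw [hgP]; push_cast; ring)]
  have hP0m : gen₂ hδ 0 0 ∈ Cyc.Zk (PP k r s) δ ((r + s : ℕ) : ℤ) := fun z hz => by
    rw [hP0, if_neg (fun h : z = η => hz (by rw [h]; exact hgP))]
  -- the zero scheme is the cap
  have hgne := LinSerLib.germ_generic_ne_zero hT hσ
  obtain ⟨v₀, hv₀⟩ := exists_sections hT
  have hcls : cls _ η ((CohB1.tensorMod ((Scheme.Modules.pullback p).obj (Twist.twistProjSpace r k (d : ℤ)))
      ((Scheme.Modules.pullback q).obj (Twist.twistProjSpace s k (e : ℤ)))).presheaf.germ ⊤ η trivial σ) ≠ 0 := by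
    obtain ⟨g, hg, -⟩ := exists_gen hT η
    obtain ⟨φ, hφ⟩ := Submodule.mem_span_singleton.1 (hg.1.ge (Submodule.mem_top :
      (CohB1.tensorMod ((Scheme.Modules.pullback p).obj (Twist.twistProjSpace r k (d : ℤ)))
      ((Scheme.Modules.pullback q).obj (Twist.twistProjSpace s k (e : ℤ)))).presheaf.germ ⊤ η trivial σ ∈ ⊤))
    rw [← hφ, cls_smul, ← residue_ne_zero hg]
    letI : Field ((PP k r s).presheaf.stalk η) := inferInstanceAs (Field (PP k r s).functionField)
    intro h0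
    have h1 : φ ∈ IsLocalRing.maximalIdeal ((PP k r s).presheaf.stalk η) := (IsLocalRing.residue_eq_zero_iff φ).1 h0
    rw [IsLocalRing.maximalIdeal_eq_bot, Ideal.mem_bot] at h1
    refine hgne ?_
    rw [← hφ, h1, zero_smul]
  let v : (ξ : PP k r s) → Cyc.secFibre (CohB1.tensorMod ((Scheme.Modules.pullback p).obj (Twist.twistProjSpace r k (d : ℤ)))
      ((Scheme.Modules.pullback q).obj (Twist.twistProjSpace s k (e : ℤ)))) ξ :=
    Function.update v₀ η (cls _ η ((CohB1.tensorMod ((Scheme.Modules.pullback p).obj (Twist.twistProjSpace r k (d : ℤ)))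
      ((Scheme.Modules.pullback q).obj (Twist.twistProjSpace s k (e : ℤ)))).presheaf.germ ⊤ η trivial σ))
  have hv : ∀ ξ, v ξ ≠ 0 := fun ξ => by
    by_cases h : ξ = η
    · subst h; simpa [v] using hcls
    · simpa [v, h] using hv₀ ξ
  have hcap : ⇑ζ = Cyc.c1CapFun δ (CohB1.tensorMod ((Scheme.Modules.pullback p).obj (Twist.twistProjSpace r k (d : ℤ)))
      ((Scheme.Modules.pullback q).obj (Twist.twistProjSpace s k (e : ℤ)))) ⇑(gen₂ hδ 0 0) v := by
    rw [hζ, ← S1923.result (PP k r s) δ (isSetupPP hδ) _ hgP _ hT σ hgne]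
    funext x
    rw [Cyc.c1CapFun, finsum_eq_single _ η fun ξ hξ => by rw [hP0, if_neg hξ, zero_mul], hP0, if_pos rfl, one_mul]
    simp only [v, Function.update_self]
    rfl
  have h1 := ratEquiv_capC_sec hd hT hP0m hv hcap
  have h2 := capC_tensor hd hA hB hP0m
  -- the first factor
  have hg0 : gen (hdl (k := k) (r := r)) 0 ∈ Cyc.Zk (CohB1.ProjSpace r k) (dl k r) (r : ℤ) :=
    gen_mem (hdl (k := k) (r := r)) (by push_cast; ring)
  have hgen1 : gen (hdl (k := k) (r := r)) 1 ∈ Cyc.Zk (CohB1.ProjSpace r k) (dl k r) ((r : ℤ) - 1) :=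
    gen_mem (hdl (k := k) (r := r)) (by push_cast; ring)
  have hLd := PicMul.isInvertible_tensorPow (isInvertible_twist (k := k) r 1) d
  have e1 : Cyc.RatEquiv (dl k r) ((r : ℤ) - 1) (capC hdX (isInvertible_twist r d) (gen (hdl (k := k) (r := r)) 0))
      ((d : ℤ) • gen (hdl (k := k) (r := r)) 1) := by
    refine RatOn.trans hdX (capC_iso hdX (isInvertible_twist r d) hLd (twist_iso_tensorPow r d).some hg0) ?_
    refine RatOn.trans hdX (capC_pow hdX (isInvertible_twist r 1) hg0 d hLd) ?_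
    have h3 := ratEquiv_capC_sec hdX (isInvertible_twist (k := k) r 1) hg0 (v := fun _ => (hasCoords k r).sec 0 _)
      (fun _ => (hasCoords k r).sec_ne_zero 0 _) (γ := gen (hdl (k := k) (r := r)) 1) rfl
    have h4 := (ratZero hdX ((r : ℤ) - 1)).zsmul_mem
      (show _ ∈ ratZero hdX ((r : ℤ) - 1) from RatOn.symm hdX h3) (d : ℤ)
    rw [smul_sub] at h4
    exact h4
  have hmem1 : capC hdX (isInvertible_twist r d) (gen (hdl (k := k) (r := r)) 0) -
      (d : ℤ) • gen (hdl (k := k) (r := r)) 1 ∈ Cyc.Zk (CohB1.ProjSpace r k) (dl k r) ((r : ℤ) - 1) := fun x hx => by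
    rw [Function.locallyFinsuppWithin.coe_sub, Pi.sub_apply, Function.locallyFinsuppWithin.coe_zsmul, Pi.smul_apply,
      capC_mem hdX (isInvertible_twist r d) hg0 x hx, hgen1 x hx, smul_zero, sub_zero]
  have e2 := hh.cl_ratEquivZero hd hδ' hdX hmem1 e1 0
  rw [map_sub, map_zsmul] at e2
  have e3 : Cyc.RatEquiv δ (((r + s : ℕ) : ℤ) - 1) (capC hd hA (gen₂ hδ 0 0)) ((d : ℤ) • gen₂ hδ 0 1) := by
    have h5 := capC_pull hdX p hd (hh.hasShift hd hδ') (isInvertible_twist r d) hA hg0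
    rw [show (r : ℤ) + s - 1 = ((r + s : ℕ) : ℤ) - 1 by push_cast; ring] at h5
    rw [show (r : ℤ) - 1 + s - ((0 : ℕ) : ℤ) = ((r + s : ℕ) : ℤ) - 1 by push_cast; ring] at e2
    exact RatOn.trans hd (RatOn.symm hd h5) e2
  -- the second factor
  have hO1 : PicF.IsInvertible (O1 (CohB1.ProjSpace.toSpec r k) s) := hh.invertible
  have hLe := PicMul.isInvertible_tensorPow hO1 e
  have e4 : Cyc.RatEquiv δ (((r + s : ℕ) : ℤ) - 1) (capC hd hB (gen₂ hδ 0 0)) ((e : ℤ) • gen₂ hδ 1 0) := by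
    obtain ⟨i₁⟩ := twist_iso_tensorPow (k := k) s e
    obtain ⟨i₂⟩ := nonempty_pullback_tensorPow q (Twist.twistProjSpace s k 1) e
    refine RatOn.trans hd (capC_iso hd hB hLe ((Scheme.Modules.pullback q).mapIso i₁ ≪≫ i₂) hP0m) ?_
    refine RatOn.trans hd (capC_pow hd hO1 hP0m e hLe) ?_
    have h3 := ratEquiv_capC_sec hd hO1 hP0m (v := fun _ => hh.sec 0 _)
      (fun _ => hh.sec_ne_zero 0 _) (γ := gen₂ hδ 1 0) rfl
    have h4 := (ratZero hd (((r + s : ℕ) : ℤ) - 1)).zsmul_mem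
      (show _ ∈ ratZero hd (((r + s : ℕ) : ℤ) - 1) from RatOn.symm hd h3) (e : ℤ)
    rw [smul_sub] at h4
    exact h4
  have h6 := (ratZero hd (((r + s : ℕ) : ℤ) - 1)).add_mem
    ((ratZero hd (((r + s : ℕ) : ℤ) - 1)).sub_mem (show _ ∈ ratZero hd (((r + s : ℕ) : ℤ) - 1) from h1)
      (show _ ∈ ratZero hd (((r + s : ℕ) : ℤ) - 1) from h2))
    ((ratZero hd (((r + s : ℕ) : ℤ) - 1)).add_mem (show _ ∈ ratZero hd (((r + s : ℕ) : ℤ) - 1) from e3)
      (show _ ∈ ratZero hd (((r + s : ℕ) : ℤ) - 1) from e4))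
  rw [show ζ - capC hd hT (gen₂ hδ 0 0) - (capC hd hA (gen₂ hδ 0 0) + capC hd hB (gen₂ hδ 0 0) - capC hd hT (gen₂ hδ 0 0)) +
      (capC hd hA (gen₂ hδ 0 0) - (d : ℤ) • gen₂ hδ 0 1 + (capC hd hB (gen₂ hδ 0 0) - (e : ℤ) • gen₂ hδ 1 0)) =
      ζ - ((d : ℤ) • gen₂ hδ 0 1 + (e : ℤ) • gen₂ hδ 1 0) by abel] at h6
  exact h6

end Groth.Agent.H28.PnCyc

end
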