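import Groth.Agent.H28.PBField
import Groth.Agent.H23.ProjBd.OfProjBundle
import Groth.Agent.LefPenLib.Hyp
import Groth.Agent.Lib.PnChart
import Mathlib.LinearAlgebra.Matrix.NonsingularInverse
import Mathlib.LinearAlgebra.Dimension.Constructions

/-!
# Coordinates on projective space adapted to linear forms
-/

set_option autoImplicit false
set_option linter.style.haveILetI false
set_option linter.unusedSectionVars false
set_option linter.overlappingInstances false
set_option backward.isDefEq.respectTransparency false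
set_option backward.isDefEq.respectTransparency.types false

universe u

open CategoryTheory CategoryTheory.Limits AlgebraicGeometry TopologicalSpace Opposite

noncomputable section

namespace Groth.Agent.H28.PnCyc

open Groth.Agent Groth.Agent.AModX Groth.Agent.H28.PBFree

attribute [local instance] MvPolynomial.gradedAlgebra

variable {k : Type u} [Field k] {n : ℕ}

/-- The linear form with a given row of coefficients. -/
def form (v : Fin (n + 1) → k) : LefPen.Form n k 1 :=
  ⟨∑ a, MvPolynomial.C (v a) * MvPolynomial.X a, Submodule.sum_mem _ fun a _ =>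
    (MvPolynomial.mem_homogeneousSubmodule 1 _).mpr ((MvPolynomial.isHomogeneous_X k a).C_mul (v a))⟩

theorem coeff_form (v : Fin (n + 1) → k) (a : Fin (n + 1)) :
    MvPolynomial.coeff (Finsupp.single a 1) (form v).1 = v a := by
  classical
  rw [form, MvPolynomial.coeff_sum, Finset.sum_eq_single a]
  · simp [MvPolynomial.coeff_C_mul]
  · intro b _ hb
    simp [MvPolynomial.coeff_C_mul, MvPolynomial.coeff_X, Finsupp.single_eq_single_iff, hb]
  · exact fun h => absurd (Finset.mem_univ a) h

/-- The coefficients of a linear form. -/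
def coeffs : LefPen.Form n k 1 →ₗ[k] (Fin (n + 1) → k) :=
  LinearMap.pi fun a => (MvPolynomial.lcoeff k (Finsupp.single a 1)).comp (CohB1.polyGrading n k 1).subtype

theorem coeffs_injective : Function.Injective (coeffs : LefPen.Form n k 1 →ₗ[k] (Fin (n + 1) → k)) := by
  refine (injective_iff_map_eq_zero _).2 fun G hG => Subtype.ext (MvPolynomial.ext _ _ fun d => ?_)
  simp only [ZeroMemClass.coe_zero, MvPolynomial.coeff_zero]
  by_contra h
  have hd : ∑ j, d j = 1 := by
    have := ((MvPolynomial.mem_homogeneousSubmodule 1 _).1 G.2) h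
    rw [Finsupp.weight_apply, Finsupp.sum_fintype _ _ (fun _ => by simp)] at this
    simpa using this
  obtain ⟨a, rfl⟩ : ∃ a, d = Finsupp.single a 1 := by
    obtain ⟨a, -, ha⟩ := Finset.exists_ne_zero_of_sum_ne_zero (s := Finset.univ) (f := fun j => d j) (by omega)
    refine ⟨a, Finsupp.ext fun b => ?_⟩
    have h' := Finset.add_sum_erase Finset.univ (fun j => d j) (Finset.mem_univ a)
    rcases eq_or_ne b a with rfl | hb
    · rw [Finsupp.single_eq_same]; omega
    · have := Finset.single_le_sum (f := fun j => d j) (fun j _ => Nat.zero_le _)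
        (Finset.mem_erase.2 ⟨hb, Finset.mem_univ b⟩)
      rw [Finsupp.single_eq_of_ne hb]; omega
  exact h (congrFun hG a)

theorem form_coeffs (G : LefPen.Form n k 1) : form (coeffs G) = G :=
  coeffs_injective (funext fun a => coeff_form (coeffs G) a)

theorem exists_matrix {N : ℕ} (ℓ : Fin N → LefPen.Form n k 1) (hℓ : LinearIndependent k ℓ) :
    ∃ (h : N ≤ n + 1) (A : Matrix (Fin (n + 1)) (Fin (n + 1)) k), IsUnit A ∧
      ∀ t, form (A (Fin.castLE h t)) = ℓ t := by
  classical
  have hv : LinearIndependent k (fun t => coeffs (ℓ t)) :=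
    hℓ.map' coeffs (LinearMap.ker_eq_bot.2 coeffs_injective)
  have hN : N ≤ n + 1 := by simpa using hv.fintype_card_le_finrank
  let bs := Module.Basis.sumExtend hv
  haveI : Finite (Fin N ⊕ Module.Basis.sumExtendIndex hv) := Module.Finite.finite_basis bs
  haveI : Finite (Module.Basis.sumExtendIndex hv) := Finite.sum_right (Fin N)
  letI := Fintype.ofFinite (Module.Basis.sumExtendIndex hv)
  have hc : N + Fintype.card (Module.Basis.sumExtendIndex hv) = n + 1 := by
    have := Module.finrank_eq_card_basis bs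
    simpa using this.symm
  let e : Fin N ⊕ Module.Basis.sumExtendIndex hv ≃ Fin (n + 1) :=
    ((Equiv.refl (Fin N)).sumCongr (Fintype.equivFin _)).trans (finSumFinEquiv.trans (finCongr hc))
  let b' := bs.reindex e
  refine ⟨hN, Matrix.of fun l => b' l, ?_, fun t => ?_⟩
  · exact Matrix.linearIndependent_rows_iff_isUnit.1 b'.linearIndependent
  · have h2 : e.symm (Fin.castLE hN t) = Sum.inl t := e.symm_apply_eq.2 (Fin.ext rfl)
    have h3 : b' (Fin.castLE hN t) = coeffs (ℓ t) := by
      rw [Module.Basis.reindex_apply, h2]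
      simp [bs, Module.Basis.sumExtend, Module.Basis.reindex_apply, Module.Basis.extend_apply_self]
      rfl
    show form (b' (Fin.castLE hN t)) = _
    rw [h3, form_coeffs]

/-- Constants as functions on `Spec k`. -/
def cst : k →+* Γ(Spec (CommRingCat.of k), ⊤) := (Scheme.ΓSpecIso (CommRingCat.of k)).inv.hom

/-- The basis of the free module given by a matrix. -/
def frame (A : Matrix (Fin (n + 1)) (Fin (n + 1)) k) (l : Fin (n + 1)) :
    Γ(FlatMod.freeMod (Spec (CommRingCat.of k)) (n + 1), ⊤) :=
  ∑ a, cst (A l a) • bas (Spec (CommRingCat.of k)) (n + 1) a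

theorem vecMul_bijective {R : Type*} [CommRing R] {ι : Type*} [Fintype ι] [DecidableEq ι] (B : Matrix ι ι R) (hB : IsUnit B) :
    Function.Bijective fun c => Matrix.vecMul c B := by
  have hd : IsUnit B.det := (Matrix.isUnit_iff_isUnit_det B).1 hB
  refine Function.bijective_iff_has_inverse.2 ⟨fun c => Matrix.vecMul c B⁻¹, fun c => ?_, fun c => ?_⟩
  · show Matrix.vecMul (Matrix.vecMul c B) B⁻¹ = c
    rw [Matrix.vecMul_vecMul, Matrix.mul_nonsing_inv B hd, Matrix.vecMul_one]
  · show Matrix.vecMul (Matrix.vecMul c B⁻¹) B = c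
    rw [Matrix.vecMul_vecMul, Matrix.nonsing_inv_mul B hd, Matrix.vecMul_one]

theorem isFrame_mul {X : Scheme.{u}} {M : X.Modules} {U : X.Opens} {m : ℕ} {b : Fin m → Γ(M, U)}
    (hb : H23.Frame.IsFrame M b) (A : Matrix (Fin m) (Fin m) Γ(X, U)) (hA : IsUnit A) :
    H23.Frame.IsFrame M (fun l => ∑ a, A l a • b a) := by
  classical
  intro W h
  let B : Matrix (Fin m) (Fin m) Γ(X, W) := A.map (resR h)
  have hB : IsUnit B := hA.map (resR h).mapMatrix
  have key : H23.Frame.comb M (fun l => ∑ a, A l a • b a) W h =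
      H23.Frame.comb M b W h ∘ (fun c => Matrix.vecMul c B) := by
    funext c
    show (∑ l, c l • res M h (∑ a, A l a • b a)) = ∑ a, (∑ l, c l * resR h (A l a)) • res M h (b a)
    simp only [map_sum, Finset.smul_sum, Finset.sum_smul, res_smul, smul_smul]
    exact Finset.sum_comm
  rw [key]
  exact (hb W h).comp (vecMul_bijective B hB)

theorem isFrame_frame (A : Matrix (Fin (n + 1)) (Fin (n + 1)) k) (hA : IsUnit A) :
    H23.Frame.IsFrame (FlatMod.freeMod (Spec (CommRingCat.of k)) (n + 1)) (frame A) :=
  isFrame_mul (X := Spec (CommRingCat.of k)) H23.Frame.incl_isFrame (A.map cst) (hA.map (cst (k := k)).mapMatrix)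

/-- On a chart a linear form is the dehomogenised form times the coordinate. -/
theorem sig_chart (q : (Scheme.Modules.pullback (CohB1.ProjSpace.toSpec n k)).obj
      (FlatMod.freeMod (Spec (CommRingCat.of k)) (n + 1)) ⟶ Twist.twistProjSpace n k 1)
    (hq : ∀ i, PBlow.sig q (bas (Spec (CommRingCat.of k)) (n + 1)) i = PBField.co n k i)
    (A : Matrix (Fin (n + 1)) (Fin (n + 1)) k) (l i : Fin (n + 1)) :
    res (Twist.twistProjSpace n k 1) (le_top : LefPen.chart n k i ≤ ⊤) (PBlow.sig q (frame A) l) =
      LefPen.dehom (form (A l)) i •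
        res (Twist.twistProjSpace n k 1) (le_top : LefPen.chart n k i ≤ ⊤) (PBField.co n k i) := by
  let p := CohB1.ProjSpace.toSpec n k
  let O := Twist.twistProjSpace n k 1
  have h1 : InvX.pullElt p (frame A l) =
      ∑ a, p.app ⊤ (cst (A l a)) • InvX.pullElt p (bas (Spec (CommRingCat.of k)) (n + 1) a) :=
    (map_sum (((Scheme.Modules.pullbackPushforwardAdjunction p).unit.app
      (FlatMod.freeMod (Spec (CommRingCat.of k)) (n + 1))).app ⊤).hom _ _).trans
        (Finset.sum_congr rfl fun a _ => InvX.pullElt_smul p _ _)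
  have h2 : (PBlow.sig q (frame A) l : Γ(O, ⊤)) =
      ∑ a, (show Γ(CohB1.ProjSpace n k, ⊤) from p.app ⊤ (cst (A l a))) • (PBField.co n k a : Γ(O, ⊤)) := by
    show q.app (p ⁻¹ᵁ ⊤) (InvX.pullElt p (frame A l)) = _
    rw [h1]
    refine (map_sum (q.app (p ⁻¹ᵁ ⊤)).hom _ _).trans (Finset.sum_congr rfl fun a _ => ?_)
    refine (Scheme.Modules.Hom.app_smul q _ _).trans (congrArg (_ • ·) ?_)
    exact hq a
  have h3 : LefPen.dehom (form (A l)) i = ∑ a, (Proj.awayToSection (CohB1.polyGrading n k) (MvPolynomial.X i)).hom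
      (ZetaLib.base n k i (A l a)) * (Proj.awayToSection (CohB1.polyGrading n k) (MvPolynomial.X i)).hom
      (ZetaLib.coord n k i a) := by
    rw [LefPenLib.dehom_eq, form, map_sum, map_sum]
    refine Finset.sum_congr rfl fun a _ => ?_
    rw [map_mul, map_mul, ZetaLib.dehom, MvPolynomial.eval₂Hom_C, MvPolynomial.eval₂Hom_X']
  rw [h2, h3, map_sum, Finset.sum_smul]
  refine Finset.sum_congr rfl fun a _ => ?_
  rw [res_smul, mul_smul]
  refine congrArg₂ (fun r m => r • m) ?_ ?_
  · exact PnChart.str_eq n k i (A l a)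
  · exact ProjUPX.sec_eq_smul (CohB1.polyGrading n k) (ProjPt.X_mem a) (ProjPt.X_mem i)

end Groth.Agent.H28.PnCyc

end
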