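import Groth.Agent.H28.PnCyc.Basic
import Groth.Agent.H28.PnCyc.Coords
import Groth.Agent.H23.MultCM
import Groth.Agent.H23.ProjBd.Linear

/-!
# The cycle of a linear subspace of projective space
-/

set_option autoImplicit false
set_option linter.style.haveILetI false
set_option linter.unusedSectionVars false
set_option linter.overlappingInstances false
set_option backward.isDefEq.respectTransparency false
set_option backward.isDefEq.respectTransparency.types false

universe u

open CategoryTheory CategoryTheory.Limits AlgebraicGeometry TopologicalSpace Opposite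

noncomputable section

namespace Groth.Agent.H28.PnCyc

open Groth.Agent Groth.Agent.AModX Groth.Agent.H23 Groth.Agent.H23.ProjBd RatSec

attribute [local instance] MvPolynomial.gradedAlgebra

variable {k : Type u} [Field k] {n : ℕ}

/-- The affine chart. -/
abbrev chA (i : Fin (n + 1)) : (CohB1.ProjSpace n k).affineOpens := LefPenLib.chartAff i

theorem stk_ciIdeal {N : ℕ} (ℓ : Fin N → LefPen.Form n k 1) (i : Fin (n + 1)) {z : CohB1.ProjSpace n k}
    (hz : z ∈ LefPen.chart n k i) :
    CDivEq.stk (LefPen.ciIdeal (a := fun _ : Fin N => 1) ℓ) (chA i) hz =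
      Ideal.span (Set.range fun t => (CohB1.ProjSpace n k).presheaf.germ (LefPen.chart n k i) z hz
        (LefPen.dehom (ℓ t) i)) := by
  show Ideal.map ((CohB1.ProjSpace n k).presheaf.germ (LefPen.chart n k i) z hz).hom
    ((⨆ t, LefPen.hypIdeal (ℓ t)).ideal (chA i)) = _
  rw [Scheme.IdealSheafData.ideal_iSup, iSup_apply, Ideal.map_iSup, Ideal.span,
    Submodule.span_range_eq_iSup]
  refine iSup_congr fun t => ?_
  rw [LefPenLib.hypIdeal_chart, Ideal.map_span, Set.image_singleton]
  rfl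

theorem exists_chart (z : CohB1.ProjSpace n k) : ∃ i, z ∈ LefPen.chart n k i :=
  Opens.mem_iSup.1 (LefPenLib.iSup_chart.ge (show z ∈ (⊤ : (CohB1.ProjSpace n k).Opens) from trivial))

theorem pU_eq_bot {U : (Spec (CommRingCat.of k)).Opens} (hU : IsAffineOpen U) (hT : U = ⊤)
    {ξ : Spec (CommRingCat.of k)} (hξ : ξ ∈ U) : (hU.primeIdealOf ⟨ξ, hξ⟩).asIdeal = ⊥ := by
  subst hT
  refine eq_bot_iff.2 fun a ha => ?_
  obtain ⟨x, rfl⟩ := (ConcreteCategory.bijective_of_isIso (Scheme.ΓSpecIso (CommRingCat.of k)).inv).2 a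
  by_cases hx : x = 0
  · rw [hx, map_zero]
    exact zero_mem _
  · exact absurd (Ideal.eq_top_of_isUnit_mem _ ha ((isUnit_iff_ne_zero.2 hx).map
      (Scheme.ΓSpecIso (CommRingCat.of k)).inv.hom)) (hU.primeIdealOf ⟨ξ, hξ⟩).isPrime.ne_top

/-- Coordinates adapted to a family of linear forms. -/
theorem exists_adapted {N : ℕ} (hN : N ≤ n) (ℓ : Fin N → LefPen.Form n k 1) (hℓ : LinearIndependent k ℓ) :
    ∃ c : Coords (CohB1.ProjSpace.toSpec n k) (Twist.twistProjSpace n k 1) n ⊤,
      (∀ z, z ∈ ((LefPen.ciIdeal (a := fun _ : Fin N => 1) ℓ).support : Set (CohB1.ProjSpace n k)) ↔ c.Vanish N z) ∧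
      ∀ (w : CohB1.ProjSpace n k) (hw : w ∈ c.W (Fin.last n)) (l : Fin n), (l : ℕ) < N →
        (CohB1.ProjSpace n k).presheaf.germ (c.W (Fin.last n)) w hw (c.ψ (Fin.last n) (MvPolynomial.X l)) ∈
          IntMult.stalkIdeal (LefPen.ciIdeal (a := fun _ : Fin N => 1) ℓ) w := by
  classical
  obtain ⟨hNle, A, hA, hAℓ⟩ := exists_matrix ℓ hℓ
  obtain ⟨q, hP, hq⟩ := PBField.exists_isProjBundle' n k
  let c : Coords (CohB1.ProjSpace.toSpec n k) (Twist.twistProjSpace n k 1) n ⊤ :=
    coordsOfFrame hP (isAffineOpen_top _) (frame A) (isFrame_frame A hA)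
  let I := LefPen.ciIdeal (a := fun _ : Fin N => 1) ℓ
  let O := Twist.twistProjSpace n k 1
  have hgen : ∀ (i : Fin (n + 1)) (z) (hz : z ∈ LefPen.chart n k i), IsGen
      (O.presheaf.germ (LefPen.chart n k i) z hz (res O le_top (PBField.co n k i))) :=
    fun i z hz => isGen_germ (ProjUPX.isFrame_sec (CohB1.polyGrading n k) (ProjPt.X_mem i)) z hz
  have hsg : ∀ (l i : Fin (n + 1)) (z) (hz : z ∈ LefPen.chart n k i), c.sg l z trivial =
      (CohB1.ProjSpace n k).presheaf.germ (LefPen.chart n k i) z hz (LefPen.dehom (form (A l)) i) •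
        O.presheaf.germ (LefPen.chart n k i) z hz (res O le_top (PBField.co n k i)) := by
    intro l i z hz
    have h := congrArg (O.presheaf.germ (LefPen.chart n k i) z hz).hom (sig_chart q hq A l i)
    erw [QCoh.germ_smul' O hz] at h
    exact (O.presheaf.germ_res_apply (homOfLE (le_top : LefPen.chart n k i ≤ ⊤)) z hz _).symm.trans h
  have hcs : ∀ (l i : Fin (n + 1)) (z) (hz : z ∈ LefPen.chart n k i),
      c.cs l z trivial = 0 ↔ ¬ IsUnit ((CohB1.ProjSpace n k).presheaf.germ (LefPen.chart n k i) z hz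
        (LefPen.dehom (form (A l)) i)) := by
    intro l i z hz
    rw [Coords.cs, hsg l i z hz, cls_smul, ← not_ne_iff (b := (0 : Cyc.secFibre O z)),
      ← residue_ne_zero (hgen i z hz), not_ne_iff]
    exact IsLocalRing.residue_eq_zero_iff _
  have hsupp : ∀ z, z ∈ (I.support : Set (CohB1.ProjSpace n k)) ↔ c.Vanish N z := by
    intro z
    obtain ⟨i, hz⟩ := exists_chart z
    rw [CDivEq.mem_support_iff I (chA i) hz, stk_ciIdeal ℓ i hz]
    constructor
    · intro h _ l hl
      refine (hcs l i z hz).2 fun hu => h (Ideal.eq_top_of_isUnit_mem _ (Ideal.subset_span ⟨⟨l, hl⟩, ?_⟩) hu)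
      exact (congrArg (fun G => (CohB1.ProjSpace n k).presheaf.germ (LefPen.chart n k i) z hz
        (LefPen.dehom G i)) (hAℓ ⟨l, hl⟩)).symm
    · intro h htop
      have hle : Ideal.span (Set.range fun t => (CohB1.ProjSpace n k).presheaf.germ (LefPen.chart n k i) z hz
          (LefPen.dehom (ℓ t) i)) ≤ IsLocalRing.maximalIdeal _ := by
        rw [Ideal.span_le]
        rintro _ ⟨t, rfl⟩
        show _ ∈ IsLocalRing.maximalIdeal _
        rw [IsLocalRing.mem_maximalIdeal, mem_nonunits_iff]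
        exact fun hu => (hcs (Fin.castLE hNle t) i z hz).1 (h trivial _ t.2) ((congrArg (fun G => IsUnit
          ((CohB1.ProjSpace n k).presheaf.germ (LefPen.chart n k i) z hz (LefPen.dehom G i))) (hAℓ t)).mpr hu)
      exact (IsLocalRing.maximalIdeal.isMaximal _).ne_top (top_le_iff.1 (htop ▸ hle))
  refine ⟨c, hsupp, fun w hw l hl => ?_⟩
  obtain ⟨i, hiw⟩ := exists_chart w
  rw [MultCM.stalkIdeal_eq I (chA i) hiw]
  show _ ∈ CDivEq.stk I (chA i) hiw
  rw [stk_ciIdeal ℓ i hiw]
  obtain ⟨r, hr, e⟩ : ∃ r, IsUnit r ∧ c.sg (Fin.last n) w trivial =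
      r • O.presheaf.germ (LefPen.chart n k i) w hiw (res O le_top (PBField.co n k i)) := by
    refine ⟨_, ?_, hsg (Fin.last n) i w hiw⟩
    by_contra hu
    exact c.cs_self_ne_zero (Fin.last n) w hw ((hcs (Fin.last n) i w hiw).2 hu)
  have h1 := c.sg_succAbove (Fin.last n) l w hw
  rw [e, hsg _ i w hiw, smul_smul] at h1
  have h2 := sub_eq_zero.1 ((hgen i w hiw).2 _ ((sub_smul _ _ _).trans (sub_eq_zero.2 h1)))
  rw [← Ideal.mul_unit_mem_iff_mem _ hr, ← h2]
  refine Ideal.subset_span ⟨⟨_, (by simpa using hl : ((Fin.last n).succAbove l : ℕ) < N)⟩, ?_⟩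
  exact (congrArg (fun G => (CohB1.ProjSpace n k).presheaf.germ (LefPen.chart n k i) w hiw
    (LefPen.dehom G i)) (hAℓ _)).symm

variable {δ : CohB1.ProjSpace n k → ℤ} (hδ : Cyc.DeltaCompat (CohB1.ProjSpace.toSpec n k) δ (fun _ => 0))

include hδ in
theorem delta_le_dim (z : CohB1.ProjSpace n k) : δ z ≤ n := by
  have hh := hasCoords k n
  let c := hh.coords (IsLocalRing.closedPoint k)
  have hmem := hh.mem_nhd (IsLocalRing.closedPoint k)
  haveI := FibDim.subsingleton_spec_field k
  obtain ⟨η, hη⟩ := c.exists_isEta hmem (Nat.zero_le n)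
  have h := CycLib.delta_le (isDimFun hδ) (hη.gen z
    (by rw [Subsingleton.elim (CohB1.ProjSpace.toSpec n k z) (IsLocalRing.closedPoint k)]; exact hmem)
    (specializes_of_eq (Subsingleton.elim _ _)) fun _ l hl => absurd hl (Nat.not_lt_zero _))
  have h2 := hη.delta_eq c hmem (isDimFun hδ) hδ (Nat.zero_le n)
  rw [h2] at h
  simpa using h

include hδ in
/-- The generic point of a linear subspace. -/
theorem exists_generic {N m : ℕ} (hN : m + N = n) (ℓ : Fin N → LefPen.Form n k 1) (hℓ : LinearIndependent k ℓ) :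
    ∃ η : CohB1.ProjSpace n k, δ η = m ∧
      (∀ z, z ∈ ((LefPen.ciIdeal (a := fun _ : Fin N => 1) ℓ).support : Set (CohB1.ProjSpace n k)) ↔ η ⤳ z) ∧
      IsLocalRing.maximalIdeal ((CohB1.ProjSpace n k).presheaf.stalk η) ≤
        IntMult.stalkIdeal (LefPen.ciIdeal (a := fun _ : Fin N => 1) ℓ) η := by
  classical
  obtain ⟨c, hsupp, hX⟩ := exists_adapted (show N ≤ n by omega) ℓ hℓ
  haveI := FibDim.subsingleton_spec_field k
  have hd := isDimFun hδ
  obtain ⟨η, hη⟩ := c.exists_isEta (ξ := IsLocalRing.closedPoint k) trivial (show N ≤ n by omega)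
  refine ⟨η, ?_, fun z => ⟨fun hz => hη.gen z trivial (specializes_of_eq (Subsingleton.elim _ _)) ((hsupp z).1 hz),
    fun hz => hz.mem_closed (Scheme.IdealSheafData.support _).isClosed ((hsupp η).2 hη.vanish)⟩, ?_⟩
  · rw [hη.delta_eq c trivial hd hδ (by omega)]
    push_cast [Nat.cast_sub (show N ≤ n by omega)]
    omega
  obtain ⟨hW, hpr⟩ := hη.mem_W c (j := Fin.last n) (by simp; omega) trivial
  letI := (CohB1.ProjSpace n k).presheaf.algebra_section_stalk ⟨η, hW⟩
  haveI := (c.affine (Fin.last n)).isLocalization_stalk ⟨η, hW⟩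
  rw [← IsLocalization.AtPrime.map_eq_maximalIdeal ((c.affine (Fin.last n)).primeIdealOf ⟨η, hW⟩).asIdeal
    ((CohB1.ProjSpace n k).presheaf.stalk η), Ideal.map_le_iff_le_comap]
  intro g hg
  obtain ⟨f, rfl⟩ := (c.bij _).2 g
  have hf : f ∈ Ideal.span ((MvPolynomial.X : Fin n → MvPolynomial (Fin n) _) '' Coords.Sset (Fin.last n) N) := by
    have h1 : f ∈ c.pr _ η hW := (c.pr_eq_comap _ η hW).symm ▸ hg
    rw [hpr, J_eq, Coords.pU, pU_eq_bot c.isAffine rfl trivial, Ideal.map_bot, bot_sup_eq] at h1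
    exact h1
  refine Ideal.span_le.2 ?_ hf |> fun h => (Ideal.mem_comap.1
    (show f ∈ Ideal.comap (c.ψ (Fin.last n)) (Ideal.comap (algebraMap _ _) _) from h))
  rintro _ ⟨l, hl, rfl⟩
  refine Ideal.mem_comap.2 (Ideal.mem_comap.2 ?_)
  exact hX η hW l (by simpa [Coords.Sset] using hl)

/-- The coefficient of a closed subscheme at a point where its ideal is the maximal ideal. -/
theorem subschemeFun_eq_one {X : Scheme.{u}} (I : X.IdealSheafData) {x : X} (hx : x ∈ (I.support : Set X))
    (hmax : IsLocalRing.maximalIdeal (X.presheaf.stalk x) ≤ IntMult.stalkIdeal I x) (δX : X → ℤ) :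
    Cyc.subschemeFun δX (δX x) I.subschemeι x = 1 := by
  rw [Cyc.subschemeFun, if_pos rfl]
  obtain ⟨w, rfl⟩ : x ∈ Set.range I.subschemeι := by
    rw [Scheme.IdealSheafData.range_subschemeι]
    exact hx
  rw [show {v : I.subscheme | I.subschemeι v = I.subschemeι w} = {w} from
    Set.ext fun v => I.subschemeι.isEmbedding.injective.eq_iff, finsum_mem_singleton]
  have hsur := I.subschemeι.stalkMap_surjective w
  have hker : RingHom.ker (I.subschemeι.stalkMap w).hom = IsLocalRing.maximalIdeal _ :=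
    le_antisymm (IsLocalRing.le_maximalIdeal (RingHom.ker_ne_top _))
      ((MultCM.ker_stalkMap_subschemeι I w).symm ▸ hmax)
  have hf : IsField (I.subscheme.presheaf.stalk w) :=
    MulEquiv.isField ((Ideal.Quotient.maximal_ideal_iff_isField_quotient _).1 (hker ▸ IsLocalRing.maximalIdeal.isMaximal _))
      (RingHom.quotientKerEquivOfSurjective hsur).symm.toMulEquiv
  letI := hf.toField
  rw [Module.length_eq_one]
  rfl

theorem subschemeFun_eq_zero {X : Scheme.{u}} (I : X.IdealSheafData) (δX : X → ℤ) (j : ℤ) {x : X}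
    (h : δX x = j → x ∉ (I.support : Set X)) : Cyc.subschemeFun δX j I.subschemeι x = 0 := by
  rw [Cyc.subschemeFun]
  split_ifs with h1
  · refine finsum_mem_eq_zero_of_forall_eq_zero fun w hw => absurd ?_ (h h1)
    exact hw ▸ (I.range_subschemeι ▸ ⟨w, rfl⟩)
  · rfl

include hδ in
/-- The cycle of a linear subspace is the class `c₁^N ∩ [P^n]`. -/
theorem linear_ratEquiv_gen {N m : ℕ} (hN : m + N = n) (ℓ : Fin N → LefPen.Form n k 1)
    (hℓ : LinearIndependent k ℓ) (lam : AlgebraicCycle (CohB1.ProjSpace n k) ℤ)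
    (hlam : ⇑lam = Cyc.subschemeFun δ m (LefPen.ciIdeal (a := fun _ : Fin N => 1) ℓ).subschemeι) :
    Cyc.RatEquiv δ m lam (gen hδ N) := by
  classical
  obtain ⟨c, hsupp, -⟩ := exists_adapted (show N ≤ n by omega) ℓ hℓ
  obtain ⟨η, hδη, hgen, hmax⟩ := exists_generic hδ hN ℓ hℓ
  let At : Atlas (CohB1.ProjSpace.toSpec n k) (Twist.twistProjSpace n k 1) n :=
    ⟨(hasCoords k n).invertible, fun _ => ⊤, fun _ => trivial, fun _ => c⟩
  have hd := isDimFun hδ
  have hdS := (CycLib.isSetup_spec_field k).2.2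
  haveI := FibDim.subsingleton_spec_field k
  have hη : c.IsEta (IsLocalRing.closedPoint k) N η :=
    ⟨Subsingleton.elim _ _, (hsupp η).1 ((hgen η).2 specializes_rfl), fun z _ _ hz => (hgen z).1 ((hsupp z).2 hz)⟩
  have hval : ∀ z, lam z = if c.IsEta (IsLocalRing.closedPoint k) N z then 1 else 0 := by
    intro z
    rw [hlam]
    by_cases hz : z = η
    · subst hz
      rw [if_pos hη, ← hδη]
      exact subschemeFun_eq_one _ ((hgen z).2 specializes_rfl) hmax δ
    · rw [if_neg (show ¬ c.IsEta (IsLocalRing.closedPoint k) N z from fun h => hz (h.unique c trivial hη))]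
      exact subschemeFun_eq_zero _ δ m fun h1 h2 => hz (CycLib.eq_of_delta_le hd ((hgen z).1 h2) (by omega)).symm
  have hcyc : lam = At.cycle hd hδ (pt k) N := by
    ext z
    rw [hval z, (At.cycle_apply hd hδ hdS pt_mem N (by omega)).2 z le_rfl, pt_apply,
      Subsingleton.elim (CohB1.ProjSpace.toSpec n k z) (IsLocalRing.closedPoint k)]
  have h := ratEquiv_capIter At.invertible hd (At.hasCoords.pullCycle_mem_Zk hd hδ pt_mem)
    (β' := (hasCoords k n).pullCycle hd hδ (pt k))
    (RatOn.ratEquiv (T := Set.univ) (RatOn.congr (RatOn.zero _) fun x => sub_self _))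
    At.sec (fun _ => (hasCoords k n).sec 0) At.sec_ne_zero (fun _ => (hasCoords k n).sec_ne_zero 0) N
  rw [zero_add, show (n : ℤ) - N = m by omega] at h
  rw [hcyc, gen, HasCoords.cl_eq]
  exact h

end Groth.Agent.H28.PnCyc

end
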