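import Groth.Agent.H28.PBField
import Groth.Agent.H28.DegTaut.Basic
import Groth.Agent.H23.ProjBd.OfProjBundle
import Groth.Agent.H23.ProjBd.Span
import Groth.Agent.H23.SetupLFT
import Groth.Agent.GenusOneSS.Free
import Groth.Agent.PnCoh.Chow.Proper

/-!
# The Chow groups of projective space over a field
-/

set_option autoImplicit false
set_option linter.style.haveILetI false
set_option linter.unusedSectionVars false
set_option linter.overlappingInstances false
set_option backward.isDefEq.respectTransparency false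
set_option backward.isDefEq.respectTransparency.types false

universe u

open CategoryTheory CategoryTheory.Limits AlgebraicGeometry

noncomputable section

namespace Groth.Agent.H28.PnCyc

open Groth.Agent Groth.Agent.H23 Groth.Agent.H23.ProjBd

attribute [local instance] MvPolynomial.gradedAlgebra

variable {k : Type u} [Field k] {n : ℕ}

instance : IsProper (CohB1.ProjSpace.toSpec n k) := PnCoh.Chow.isProper_toSpec n k

instance : IsProper (CohB1.ProjSpace n k ↘ Spec (CommRingCat.of k)) := PnCoh.Chow.isProper_toSpec n k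

instance : IsLocallyNoetherian (CohB1.ProjSpace n k) :=
  LocallyOfFiniteType.isLocallyNoetherian (CohB1.ProjSpace.toSpec n k)

theorem hasCoords (k : Type u) [Field k] (n : ℕ) :
    HasCoords (CohB1.ProjSpace.toSpec n k) (Twist.twistProjSpace n k 1) n :=
  let ⟨_, hq⟩ := PBField.exists_isProjBundle n k
  hasCoords_of_projBundle hq (GenusOneSS.isFinLocFreeOfRank_freeMod _)

variable (k) in
/-- The cycle of the point of `Spec k`. -/
def pt : AlgebraicCycle (Spec (CommRingCat.of k)) ℤ :=
  { toFun := fun _ => 1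
    supportWithinDomain' := fun _ _ => trivial
    supportLocallyFiniteWithinDomain' := fun _ _ => ⟨Set.univ, Filter.univ_mem, Set.toFinite _⟩ }

theorem pt_mem : pt k ∈ Cyc.Zk (Spec (CommRingCat.of k)) (fun _ => (0 : ℤ)) 0 := fun _ hx => absurd rfl hx

theorem pt_apply (ξ : Spec (CommRingCat.of k)) : pt k ξ = 1 := rfl

theorem cycle_spec_eq (a : AlgebraicCycle (Spec (CommRingCat.of k)) ℤ) :
    a = a (IsLocalRing.closedPoint k) • pt k := by
  haveI := FibDim.subsingleton_spec_field k
  ext ξ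
  rw [Function.locallyFinsuppWithin.coe_zsmul, Pi.smul_apply, pt_apply, Subsingleton.elim ξ (IsLocalRing.closedPoint k)]
  simp

variable {δ : CohB1.ProjSpace n k → ℤ} (hδ : Cyc.DeltaCompat (CohB1.ProjSpace.toSpec n k) δ (fun _ => 0))

include hδ in
theorem isSetup : Cyc.IsSetup (CohB1.ProjSpace n k) δ :=
  SetupLFT.isSetup _ (CycLib.isSetup_spec_field k) hδ

include hδ in
theorem isDimFun : Cyc.IsDimFun (CohB1.ProjSpace n k) δ := (isSetup hδ).2.2

/-- The class of a linear subspace of codimension `N`. -/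
def gen (N : ℕ) : AlgebraicCycle (CohB1.ProjSpace n k) ℤ :=
  (hasCoords k n).cl (isDimFun hδ) hδ N (pt k)

theorem gen_mem {N : ℕ} {m : ℤ} (hN : (n : ℤ) - N = m) : gen hδ N ∈ Cyc.Zk (CohB1.ProjSpace n k) δ m := by
  have := (hasCoords k n).cl_mem_Zk (isDimFun hδ) hδ pt_mem N
  rwa [zero_add, hN] at this

/-- The degree of a cycle of dimension `m`. -/
def capDeg (m : ℕ) : AlgebraicCycle (CohB1.ProjSpace n k) ℤ →+ ℤ :=
  AddMonoidHom.comp (IntNumCycle.degHom k δ)
    { toFun := ((hasCoords k n).capHom (isDimFun hδ))^[m]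
      map_zero' := iterate_map_zero _ m
      map_add' := iterate_map_add _ m }

theorem capDeg_congr {m : ℕ} {a b : AlgebraicCycle (CohB1.ProjSpace n k) ℤ}
    (ha : a ∈ Cyc.Zk (CohB1.ProjSpace n k) δ m) (h : Cyc.RatEquiv δ m a b) :
    capDeg hδ m a = capDeg hδ m b := by
  have hh := (hasCoords k n)
  have h1 := ratEquiv_capIter hh.invertible (isDimFun hδ) ha h (fun _ => hh.sec 0) (fun _ => hh.sec 0)
    (fun _ => hh.sec_ne_zero 0) (fun _ => hh.sec_ne_zero 0) m
  rw [hh.capIter_eq (isDimFun hδ), hh.capIter_eq (isDimFun hδ), sub_self] at h1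
  exact DegTaut.deg_congr (isSetup hδ) hδ h1

theorem capDeg_gen {m N : ℕ} (hN : m + N = n) : capDeg hδ m (gen hδ N) = 1 := by
  have hh := (hasCoords k n)
  have e : ((hasCoords k n).capHom (isDimFun hδ))^[m] (gen hδ N) =
      hh.cl (isDimFun hδ) hδ (m + N) (pt k) := (Function.iterate_add_apply _ m N _).symm
  show ChowOps.deg (CohB1.ProjSpace.toSpec n k) δ
    (((hasCoords k n).capHom (isDimFun hδ))^[m] (gen hδ N)) = 1
  rw [e, ChowOps.deg, hN]
  have h := hh.push_cl (isDimFun hδ) hδ (CycLib.isSetup_spec_field k).2.2 (isSetup hδ) (CycLib.isSetup_spec_field k)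
    pt_mem (le_refl n)
  rw [if_pos rfl, zero_add, sub_self] at h
  obtain ⟨ι, ξ, f, hξ, -, -, hs⟩ := h
  haveI : IsEmpty ι := ⟨fun i => absurd (hξ i) (by simp)⟩
  have h' := hs (IsLocalRing.closedPoint k)
  rw [finsum_of_isEmpty, Function.locallyFinsuppWithin.coe_sub, Pi.sub_apply, sub_eq_zero] at h'
  rw [h', pt_apply]

include hδ in
theorem exists_smul_gen {m N : ℕ} (hN : m + N = n) {β : AlgebraicCycle (CohB1.ProjSpace n k) ℤ}
    (hβ : β ∈ Cyc.Zk (CohB1.ProjSpace n k) δ m) :
    ∃ c : ℤ, Cyc.RatEquiv δ m β (c • gen hδ N) := by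
  have hh := (hasCoords k n)
  have e : ((m : ℤ) - n) + n = m := sub_add_cancel _ _
  obtain ⟨α, hα, h⟩ := hh.span (isDimFun hδ) (CycLib.isSetup_spec_field k).2.2 hδ (k := (m : ℤ) - n) (n + 1) le_rfl β
    (by rwa [e]) fun x _ => by omega
  rw [e] at h
  refine ⟨α ⟨N, by omega⟩ (IsLocalRing.closedPoint k), ?_⟩
  rw [Finset.sum_eq_single (⟨N, by omega⟩ : Fin (n + 1))] at h
  · rw [cycle_spec_eq (α ⟨N, _⟩), map_zsmul] at h
    exact h
  · intro i _ hi
    rw [show α i = 0 from Function.locallyFinsuppWithin.ext fun ξ => hα i ξ ?_, map_zero]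
    intro h0
    exact hi (Fin.ext (by simp at h0 ⊢; omega))
  · exact fun h => absurd (Finset.mem_univ _) h

include hδ in
theorem ratEquiv_capDeg {m N : ℕ} (hN : m + N = n) {β : AlgebraicCycle (CohB1.ProjSpace n k) ℤ}
    (hβ : β ∈ Cyc.Zk (CohB1.ProjSpace n k) δ m) :
    Cyc.RatEquiv δ m β (capDeg hδ m β • gen hδ N) := by
  obtain ⟨c, hc⟩ := exists_smul_gen hδ hN hβ
  rw [capDeg_congr hδ hβ hc, map_zsmul, capDeg_gen hδ hN, smul_eq_mul, mul_one]
  exact hc

end Groth.Agent.H28.PnCyc

end
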