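import Groth.Agent.H23.OpenExtend
import Groth.Agent.H23.FundCycle
import Mathlib.AlgebraicGeometry.Restrict

/-!
# Cycles and open subschemes
-/

set_option autoImplicit false
set_option linter.style.haveILetI false
set_option linter.unusedSectionVars false
set_option linter.overlappingInstances false
set_option backward.isDefEq.respectTransparency false
set_option backward.isDefEq.respectTransparency.types false

universe u

open CategoryTheory CategoryTheory.Limits AlgebraicGeometry TopologicalSpace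

noncomputable section

namespace Groth.Agent.H28.PnCyc

open Groth.Agent Groth.Agent.H23

variable {X W : Scheme.{u}} [IsLocallyNoetherian X] (j : W ⟶ X) [IsOpenImmersion j] {δ : X → ℤ} {δW : W → ℤ}

theorem restrictOpen (hdW : Cyc.IsDimFun W δW) (hδ : ∀ w, δW w = δ (j w)) {k : ℤ}
    {T : Set X} {G : X → ℤ} (h : RatOn.ZeroOn δ k T G) :
    RatOn.ZeroOn δW k Set.univ fun w => G (j w) := by
  classical
  obtain ⟨ι, ξ, f, h1, h2, -, h4, h5⟩ := h
  obtain rfl : δW = fun w => δ (j w) := funext hδ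
  haveI : IsLocallyNoetherian W := LocallyOfFiniteType.isLocallyNoetherian j
  let S := {i : ι // ξ i ∈ Set.range j}
  obtain ⟨ζ, g, hζ, hg, hloc, he⟩ := CycLib.exists_sumDiv_preimmersion j (δ := δ) hdW (fun i : S => ξ i.1)
    (fun i => f i.1) (fun i => h2 i.1) (fun i => i.2) fun x => by
      obtain ⟨U, hU, hx, hf⟩ := h4 x
      exact ⟨U, hU, hx, (hf.preimage (f := fun i : S => i.1) Subtype.val_injective.injOn).subset fun i hi => hi⟩
  refine ⟨S, ζ, g, fun i => by show δ (j (ζ i)) = _; rw [hζ i, h1], hg, fun _ => trivial, hloc, fun w => ?_⟩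
  refine (h5 (j w)).trans ?_
  rw [finsum_congr fun i : S => he i w]
  refine Eq.trans ?_ (finsum_subtype_eq_finsum_cond (f := fun i => Cyc.divFun δ (ξ i) (f i) (j w))
    (fun i => ξ i ∈ Set.range j)).symm
  refine finsum_congr fun i => ?_
  rw [finsum_eq_if]
  split_ifs with hi
  · rfl
  · by_contra hne
    exact hi ((specializes_iff_mem_closure.2 (CycLib.mem_closure_of_divFun_ne_zero hne)).mem_open
      j.isOpenEmbedding.isOpen_range ⟨w, rfl⟩)

/-- The extension of a cycle by zero. -/
theorem exists_extend (c : AlgebraicCycle W ℤ) :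
    ∃ C : AlgebraicCycle X ℤ, (∀ w, C (j w) = c w) ∧ ∀ x, x ∉ Set.range j → C x = 0 := by
  classical
  refine ⟨⟨fun x => if h : x ∈ Set.range j then c h.choose else 0, fun _ _ => trivial, fun x _ => ?_⟩,
    fun w => ?_, fun x hx => dif_neg hx⟩
  · obtain ⟨V, hV, hxV, -⟩ := exists_isAffineOpen_mem_and_subset (x := x) (U := (⊤ : X.Opens)) trivial
    haveI : IsNoetherianRing Γ(X, V) := IsLocallyNoetherian.component_noetherian ⟨V, hV⟩
    haveI : NoetherianSpace (V : Set X) := noetherianSpace_of_isAffineOpen V hV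
    have h1 : IsCompact ((fun y : (V : Set X) => (y : X)) ⁻¹' Set.range j) := NoetherianSpace.isCompact _
    have h2 := h1.image continuous_subtype_val
    have hc : IsCompact (j ⁻¹' (V : Set X)) := by
      rw [j.isOpenEmbedding.isEmbedding.isCompact_iff, Set.image_preimage_eq_inter_range]
      convert h2 using 1
      ext y
      exact ⟨fun hy => ⟨⟨y, hy.1⟩, hy.2, rfl⟩, by rintro ⟨z, hz, rfl⟩; exact ⟨z.2, hz⟩⟩
    refine ⟨(V : Set X), V.2.mem_nhds hxV,
      ((c.locallyFiniteSupport.finite_inter_support_of_isCompact hc).image j).subset ?_⟩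
    rintro y ⟨hyV, hy⟩
    have hr : y ∈ Set.range j := by_contra fun h => hy (dif_neg h)
    refine ⟨hr.choose, ⟨?_, fun h0 => hy ((dif_pos hr).trans h0)⟩, hr.choose_spec⟩
    show j hr.choose ∈ (V : Set X)
    rw [hr.choose_spec]
    exact hyV
  · have hr : j w ∈ Set.range j := ⟨w, rfl⟩
    show dite _ _ _ = _
    rw [dif_pos hr, j.isOpenEmbedding.injective hr.choose_spec]

theorem subschemeFun_restrict {Y Z : Scheme.{u}} (f : Z ⟶ Y) (U : Y.Opens) {δU : ↥(U : Scheme.{u}) → ℤ}
    {δY : Y → ℤ} (hδ : ∀ u, δU u = δY (U.ι u)) (k : ℤ) (u : ↥(U : Scheme.{u})) :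
    Cyc.subschemeFun δU k (f ∣_ U) u = Cyc.subschemeFun δY k f (U.ι u) := by
  rw [Cyc.subschemeFun, Cyc.subschemeFun, hδ u]
  refine if_congr Iff.rfl ?_ rfl
  have hinj : Function.Injective (f ⁻¹ᵁ U).ι := (f ⁻¹ᵁ U).ι.isOpenEmbedding.injective
  have hset : {z : Z | f z = U.ι u} = (f ⁻¹ᵁ U).ι '' {a | (f ∣_ U) a = u} := by
    ext z
    constructor
    · intro hz
      have hzU : f z ∈ U := hz.symm ▸ u.2
      refine ⟨⟨z, hzU⟩, U.ι.isOpenEmbedding.injective ?_, rfl⟩
      have h := congr($(morphismRestrict_ι f U).base ⟨z, hzU⟩)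
      exact h.trans hz
    · rintro ⟨a, ha, rfl⟩
      have h := congr($(morphismRestrict_ι f U).base a)
      exact h.symm.trans (congrArg U.ι ha)
  rw [hset, finsum_mem_image hinj.injOn]
  refine finsum_mem_congr rfl fun a _ => ?_
  let e := (asIso ((f ⁻¹ᵁ U).ι.stalkMap a)).commRingCatIsoToRingEquiv
  rw [FiniteFibreSum.length_self_of_bijective e.toRingHom e.bijective]

end Groth.Agent.H28.PnCyc

end
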