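import Groth.Agent.H28.PnCyc.Degree
import Groth.Agent.H28.PnCyc.Linear
import Groth.Agent.H28.PnCyc.Open
import Groth.Agent.H23.ChowDesc
import Groth.Agent.H23.TopDim

/-!
# The Chow groups of the complement of a subvariety of projective space
-/

set_option autoImplicit false
set_option linter.style.haveILetI false
set_option linter.unusedSectionVars false
set_option linter.overlappingInstances false
set_option backward.isDefEq.respectTransparency false
set_option backward.isDefEq.respectTransparency.types false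

universe u

open CategoryTheory CategoryTheory.Limits AlgebraicGeometry TopologicalSpace

noncomputable section

namespace Groth.Agent.H28.PnCyc

open Groth.Agent Groth.Agent.H23 Groth.Agent.H23.ProjBd

attribute [local instance] MvPolynomial.gradedAlgebra

variable {k : Type u} [Field k] {n : ℕ}

theorem exists_cycle (I : (CohB1.ProjSpace n k).IdealSheafData) (δ : CohB1.ProjSpace n k → ℤ) (j : ℤ) :
    ∃ C : AlgebraicCycle (CohB1.ProjSpace n k) ℤ, ⇑C = Cyc.subschemeFun δ j I.subschemeι := by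
  haveI : IsLocallyNoetherian I.subscheme := LocallyOfFiniteType.isLocallyNoetherian I.subschemeι
  exact ⟨_, (FundCycle.subschemeFun_closed I.subschemeι δ j).symm⟩

/-- The fundamental cycle of an integral closed subscheme. -/
theorem integral_cycle (I : (CohB1.ProjSpace n k).IdealSheafData) [IsIntegral I.subscheme] {m : ℕ}
    (hdim : topologicalKrullDim I.subscheme = (m : WithBot ℕ∞))
    {δ : CohB1.ProjSpace n k → ℤ} (hδ : Cyc.DeltaCompat (CohB1.ProjSpace.toSpec n k) δ (fun _ => 0)) :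
    ∃ ζ ∈ (I.support : Set (CohB1.ProjSpace n k)), δ ζ = m ∧
      (∀ x ∈ (I.support : Set (CohB1.ProjSpace n k)), δ x ≤ m ∧ (δ x = m → x = ζ)) ∧
      ∀ x, Cyc.subschemeFun δ m I.subschemeι x = @ite ℤ (x = ζ) (Classical.propDecidable _) 1 0 := by
  classical
  let ι := I.subschemeι
  haveI : IsLocallyNoetherian I.subscheme := LocallyOfFiniteType.isLocallyNoetherian ι
  have hd := isDimFun hδ
  haveI := FibDim.subsingleton_spec_field k
  have hcl : closure ({ι (genericPoint I.subscheme)} : Set (CohB1.ProjSpace n k)) = Set.range ι := by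
    rw [← Set.image_singleton, ι.isClosedEmbedding.closure_image_eq, genericPoint_closure, Set.image_univ]
  have hm : δ (ι (genericPoint I.subscheme)) = m := by
    have h1 := FibDim.topologicalKrullDim_closure (CohB1.ProjSpace.toSpec n k) (ι (genericPoint I.subscheme))
    rw [hcl, ← (ι.isClosedEmbedding.isEmbedding.toHomeomorph).isHomeomorph.topologicalKrullDim_eq, hdim] at h1
    rw [CycLib.deltaCompat_eq (CohB1.ProjSpace.toSpec n k) hδ, zero_add]
    exact_mod_cast h1.symm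
  have hrange : Set.range ι = (I.support : Set (CohB1.ProjSpace n k)) := I.range_subschemeι
  have hmax : ∀ x ∈ (I.support : Set (CohB1.ProjSpace n k)),
      δ x ≤ m ∧ (δ x = m → x = ι (genericPoint I.subscheme)) := by
    intro x hx
    have hsp : ι (genericPoint I.subscheme) ⤳ x := specializes_iff_mem_closure.2 (hcl.ge (hrange.ge hx))
    exact ⟨hm ▸ CycLib.delta_le hd hsp, fun h => (CycLib.eq_of_delta_le hd hsp (by omega)).symm⟩
  refine ⟨_, hrange.le ⟨_, rfl⟩, hm, hmax, fun x => ?_⟩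
  have hdI : Cyc.IsDimFun I.subscheme (fun y => δ (ι y)) := CycLib.isDimFun_closedImmersion ι hd
  rw [FundCycle.subschemeFun_closed ι δ m]
  by_cases hx : x ∈ Set.range ι
  · obtain ⟨y, rfl⟩ := hx
    rw [CycLib.map_preimmersion_apply, FundCycle.coe_fund, DegTaut.subschemeFun_id_integral hdI hm]
    exact if_congr ι.isEmbedding.injective.eq_iff.symm rfl rfl
  · rw [CycLib.map_apply_not_range ι _ δ _ hx, if_neg]
    exact fun h => hx ⟨_, h.symm⟩

variable (I : (CohB1.ProjSpace n k).IdealSheafData) [IsIntegral I.subscheme]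
  (U : (CohB1.ProjSpace n k).Opens)

theorem chow_complement {m : ℕ} (hdim : topologicalKrullDim I.subscheme = (m : WithBot ℕ∞)) (hmn : m ≤ n)
    {d : ℕ} (hd : 0 < d)
    (hdeg : FGA.intNum k (CohB1.ProjSpace n k) m (fun _ : Fin m => Twist.twistProjSpace n k (-1))
      (ClSub.quotMod I) = d)
    (hU : (U : Set (CohB1.ProjSpace n k)) = (I.support : Set (CohB1.ProjSpace n k))ᶜ)
    {δU : ↥(U : Scheme.{u}) → ℤ} (hδU : Cyc.DeltaCompat (U.ι ≫ CohB1.ProjSpace.toSpec n k) δU (fun _ => 0))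
    {m' : ℕ} (hm' : m ≤ m') (hm'n : m' ≤ n)
    (ℓ : Fin (n - m') → LefPen.Form n k 1) (hℓ : LinearIndependent k ℓ)
    (lam : AlgebraicCycle (U : Scheme.{u}) ℤ)
    (hlam : ∀ u : (U : Scheme.{u}), lam u =
      Cyc.subschemeFun δU (m' : ℤ) ((LefPen.ciIdeal (a := fun _ : Fin (n - m') => 1) ℓ).subschemeι ∣_ U) u) :
    (∀ α : AlgebraicCycle (U : Scheme.{u}) ℤ, α ∈ Cyc.Zk (U : Scheme.{u}) δU m' →
        ∃ c : ℤ, Cyc.RatEquiv δU m' α (c • lam)) ∧
      (m' = m → ∀ c : ℤ, Cyc.RatEquivZero δU m' (c • lam) ↔ (d : ℤ) ∣ c) ∧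
      (m < m' → ∀ c : ℤ, Cyc.RatEquivZero δU m' (c • lam) ↔ c = 0) := by
  classical
  let p := CohB1.ProjSpace.toSpec n k
  let δ : CohB1.ProjSpace n k → ℤ := fun z => (fun _ => (0 : ℤ)) (p z) + FibDim.rd p z
  have hδ : Cyc.DeltaCompat p δ (fun _ => 0) := ChowDesc.deltaCompat_rd p (fun _ => (0 : ℤ))
  have hdP := isDimFun hδ
  have hδι : ∀ u, δU u = δ (U.ι u) := by
    have h : Cyc.DeltaCompat U.ι (fun u => δ (U.ι u)) δ := fun w =>
      ⟨0, (VarDim.rdeg_preimmersion U.ι w).trans Nat.cast_zero.symm, by simp⟩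
    exact congrFun (ChowDesc.deltaCompat_unique (U.ι ≫ p) hδU (Bivar.deltaCompat_comp U.ι p _ _ _ h hδ))
  have hdU : Cyc.IsDimFun (U : Scheme.{u}) δU :=
    CycLib.isDimFun_of_deltaCompat (U.ι ≫ p) (CycLib.isSetup_spec_field k) hδU
  haveI : IsLocallyNoetherian (U : Scheme.{u}) := LocallyOfFiniteType.isLocallyNoetherian U.ι
  have hN : m' + (n - m') = n := Nat.add_sub_cancel' hm'n
  obtain ⟨L, hL⟩ := exists_cycle (LefPen.ciIdeal (a := fun _ : Fin (n - m') => 1) ℓ) δ (m' : ℤ)
  have hLg := linear_ratEquiv_gen hδ hN ℓ hℓ L hL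
  have hlamL : ∀ u, lam u = L (U.ι u) := fun u => by rw [hlam, hL, subschemeFun_restrict _ U hδι]
  obtain ⟨ζ, hζS, hζm, hmax, hXval⟩ := integral_cycle I hdim hδ
  have hnotU : ∀ x, x ∉ Set.range U.ι ↔ x ∈ (I.support : Set (CohB1.ProjSpace n k)) := fun x => by
    rw [Scheme.Opens.range_ι, hU, Set.mem_compl_iff, not_not]
  have hLmem : L ∈ Cyc.Zk (CohB1.ProjSpace n k) δ m' := subscheme_mem_Zk _ L hL
  have hdegL : capDeg hδ m' L = 1 := by rw [capDeg_congr hδ hLmem hLg, capDeg_gen hδ hN]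
  -- restriction to `U`
  have hres : ∀ (D : AlgebraicCycle (CohB1.ProjSpace n k) ℤ) (G : ↥(U : Scheme.{u}) → ℤ),
      Cyc.RatEquivZero δ m' D → (∀ u, G u = D (U.ι u)) → RatOn.ZeroOn δU m' Set.univ G := fun D G hD hG =>
    RatOn.congr (restrictOpen U.ι hdU hδι (RatOn.of_ratEquivZero hD)) hG
  -- extension to `P^n`
  have hext : ∀ c : ℤ, Cyc.RatEquivZero δU m' (c • lam) →
      ∃ D : AlgebraicCycle (CohB1.ProjSpace n k) ℤ, D ∈ Cyc.Zk (CohB1.ProjSpace n k) δ m' ∧
        (∀ x, D x ≠ 0 → x ∈ (I.support : Set (CohB1.ProjSpace n k))) ∧ capDeg hδ m' D = c := by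
    intro c hc
    obtain ⟨G', hG', hG'j⟩ := RatOn.extendOpen U.ι (δ := δ) hδι (RatOn.of_ratEquivZero hc)
    let Gc : AlgebraicCycle (CohB1.ProjSpace n k) ℤ :=
      { toFun := G'
        supportWithinDomain' := fun _ _ => trivial
        supportLocallyFiniteWithinDomain' := fun x _ => locFin_zeroOn hdP hG' x }
    have hGc : Gc ∈ Cyc.Zk (CohB1.ProjSpace n k) δ m' := fun x hx =>
      by_contra fun h => hx (exists_gen_of_zeroOn hG' h).1
    have h0 : capDeg hδ m' Gc = capDeg hδ m' 0 :=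
      capDeg_congr hδ hGc (by rw [Cyc.RatEquiv, sub_zero]; exact RatOn.ratEquivZero hG')
    refine ⟨c • L - Gc, fun x hx => ?_, fun x hx => ?_, ?_⟩
    · rw [Function.locallyFinsuppWithin.coe_sub, Pi.sub_apply, Function.locallyFinsuppWithin.coe_zsmul,
        Pi.smul_apply, hLmem x hx, hGc x hx, smul_zero, sub_zero]
    · refine (hnotU x).1 fun ⟨u, hu⟩ => hx ?_
      subst hu
      rw [Function.locallyFinsuppWithin.coe_sub, Pi.sub_apply, Function.locallyFinsuppWithin.coe_zsmul,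
        Pi.smul_apply]
      show c • L (U.ι u) - G' (U.ι u) = 0
      rw [hG'j, Function.locallyFinsuppWithin.coe_zsmul, Pi.smul_apply, hlamL, sub_self]
    · rw [map_sub, map_zsmul, hdegL, h0, map_zero, sub_zero, smul_eq_mul, mul_one]
  refine ⟨fun α hα => ?_, fun hmm c => ⟨fun hc => ?_, fun ⟨e, he⟩ => ?_⟩, fun hlt c => ⟨fun hc => ?_, fun h0 => ?_⟩⟩
  · obtain ⟨C, hC, hC0⟩ := exists_extend U.ι α
    have hCm : C ∈ Cyc.Zk (CohB1.ProjSpace n k) δ m' := fun x hx => by
      by_cases hr : x ∈ Set.range U.ι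
      · obtain ⟨u, rfl⟩ := hr
        rw [hC]
        exact hα u (by rw [hδι]; exact hx)
      · exact hC0 x hr
    have h1 := ratEquiv_capDeg hδ hN hCm
    have h2 : (C - capDeg hδ m' C • L) ∈ ratZero hdP (m' : ℤ) := by
      have := (ratZero hdP (m' : ℤ)).sub_mem (show _ ∈ ratZero hdP (m' : ℤ) from h1)
        ((ratZero hdP (m' : ℤ)).zsmul_mem (show _ ∈ ratZero hdP (m' : ℤ) from hLg) (capDeg hδ m' C))
      rwa [smul_sub, sub_sub_sub_cancel_right] at this
    refine ⟨capDeg hδ m' C, RatOn.ratEquiv (hres _ _ h2 fun u => ?_)⟩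
    simp only [Function.locallyFinsuppWithin.coe_sub, Pi.sub_apply, Function.locallyFinsuppWithin.coe_zsmul,
      Pi.smul_apply, hC, hlamL]
  · subst hmm
    obtain ⟨D, hD, hDS, hdegD⟩ := hext c hc
    obtain ⟨χ, hχ⟩ := exists_cycle I δ (m' : ℤ)
    have hDχ : D = D ζ • χ := by
      ext x
      rw [Function.locallyFinsuppWithin.coe_zsmul, Pi.smul_apply, hχ, hXval]
      by_cases hx : x = ζ
      · rw [if_pos hx, hx]; simp
      · rw [if_neg hx, smul_zero]
        by_contra hne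
        exact hx ((hmax x (hDS x hne)).2 (by_contra fun h => hne (hD x h)))
    rw [hDχ, map_zsmul, ← intNum_eq_capDeg hδ I.subschemeι hdim χ hχ] at hdegD
    exact ⟨D ζ, by rw [← hdegD, hdeg, smul_eq_mul, mul_comm]⟩
  · subst hmm he
    obtain ⟨χ, hχ⟩ := exists_cycle I δ (m' : ℤ)
    have h1 := ratEquiv_of_intNum hδ I hN hdim hdeg χ hχ
    have h2 : (((d : ℤ) * e) • L - e • χ) ∈ ratZero hdP (m' : ℤ) := by
      have := (ratZero hdP (m' : ℤ)).sub_mem
        ((ratZero hdP (m' : ℤ)).zsmul_mem (show _ ∈ ratZero hdP (m' : ℤ) from hLg) ((d : ℤ) * e))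
        ((ratZero hdP (m' : ℤ)).zsmul_mem (show _ ∈ ratZero hdP (m' : ℤ) from h1) e)
      rwa [smul_sub, smul_sub, smul_smul, mul_comm e (d : ℤ), sub_sub_sub_cancel_right] at this
    refine RatOn.ratEquivZero (hres _ _ h2 fun u => ?_)
    simp only [Function.locallyFinsuppWithin.coe_sub, Pi.sub_apply, Function.locallyFinsuppWithin.coe_zsmul,
      Pi.smul_apply, hlamL, hχ, hXval]
    rw [if_neg fun h : U.ι u = ζ => (hnotU _).2 hζS ⟨u, h⟩, smul_zero, sub_zero]
  · obtain ⟨D, hD, hDS, hdegD⟩ := hext c hc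
    have : D = 0 := by
      ext x
      by_contra hne
      have := (hmax x (hDS x hne)).1
      have : δ x = m' := by_contra fun h => hne (hD x h)
      omega
    rw [this, map_zero] at hdegD
    exact hdegD.symm
  · subst h0
    rw [zero_smul]
    exact RatOn.ratEquivZero (RatOn.congr (RatOn.zero Set.univ) fun _ => rfl)

end Groth.Agent.H28.PnCyc

end
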