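import Groth.Agent.H28.PnCyc.Basic
import Groth.Agent.S6475
import Groth.Agent.S1859
import Groth.Agent.PnCoh.Finite.TwistInv

/-!
# Degrees of subschemes of projective space
-/

set_option autoImplicit false
set_option linter.style.haveILetI false
set_option linter.unusedSectionVars false
set_option linter.overlappingInstances false
set_option backward.isDefEq.respectTransparency false
set_option backward.isDefEq.respectTransparency.types false

universe u

open CategoryTheory CategoryTheory.Limits AlgebraicGeometry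

noncomputable section

namespace Groth.Agent.H28.PnCyc

open Groth.Agent Groth.Agent.H23 Groth.Agent.H23.ProjBd

attribute [local instance] MvPolynomial.gradedAlgebra

variable {k : Type u} [Field k] {n : ℕ}

theorem iSup_D : ⨆ i : Fin (n + 1), PnCoh.Finite.D (CohB1.polyGrading n k) (MvPolynomial.X i) = ⊤ :=
  top_le_iff.1 fun y _ => TopologicalSpace.Opens.mem_iSup.2 (ProjUPX.cov_X y)

theorem twist_neg_one_tensor :
    Nonempty (CohB1.tensorMod (Twist.twistProjSpace n k (-1)) (Twist.twistProjSpace n k 1) ≅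
      Coh.structureModule (CohB1.ProjSpace n k)) := by
  obtain ⟨e⟩ := PnCoh.Finite.twist_tensor_iso (𝒜 := CohB1.polyGrading n k)
    (fun i : Fin (n + 1) => (MvPolynomial.X i : MvPolynomial (Fin (n + 1)) k)) (fun i => ProjPt.X_mem i) iSup_D (-1) 1
  exact ⟨e ≪≫ (@asIso _ _ _ _ _ (PnCoh.Finite.isIso_oneHom (𝒜 := CohB1.polyGrading n k)
    (fun i : Fin (n + 1) => (MvPolynomial.X i : MvPolynomial (Fin (n + 1)) k)) (fun i => ProjPt.X_mem i) iSup_D)).symm⟩

variable {δ : CohB1.ProjSpace n k → ℤ} (hδ : Cyc.DeltaCompat (CohB1.ProjSpace.toSpec n k) δ (fun _ => 0))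

/-- The intersection number with hyperplanes is the degree of the fundamental cycle. -/
theorem intNum_eq_capDeg {Z : Scheme.{u}} (ι : Z ⟶ CohB1.ProjSpace n k) [IsClosedImmersion ι] {m : ℕ}
    (hdim : topologicalKrullDim Z = m) (α : AlgebraicCycle (CohB1.ProjSpace n k) ℤ)
    (hα : ⇑α = Cyc.subschemeFun δ m ι) :
    FGA.intNum k (CohB1.ProjSpace n k) m (fun _ : Fin m => Twist.twistProjSpace n k (-1))
      ((Coh.push ι).obj (Coh.structureModule Z)) = capDeg hδ m α := by
  have hh := hasCoords k n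
  let γ : ℕ → CohB1.ProjSpace n k → ℤ := fun i => ⇑((hh.capHom (isDimFun hδ))^[i] α)
  exact S6475.result k (CohB1.ProjSpace n k) δ (isSetup hδ) hδ Z ι m hdim
    (fun _ => Twist.twistProjSpace n k 1) (fun _ => Twist.twistProjSpace n k (-1))
    (fun _ => hh.invertible) (fun _ => twist_neg_one_tensor) (fun _ => hh.sec 0) (fun _ => hh.sec_ne_zero 0)
    γ hα (fun i _ => congrArg (fun a : AlgebraicCycle (CohB1.ProjSpace n k) ℤ => ⇑a)
      (Function.iterate_succ_apply' (hh.capHom (isDimFun hδ)) i α)) _ rfl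

theorem subscheme_mem_Zk {Z : Scheme.{u}} (ι : Z ⟶ CohB1.ProjSpace n k) {m : ℤ}
    (α : AlgebraicCycle (CohB1.ProjSpace n k) ℤ) (hα : ⇑α = Cyc.subschemeFun δ m ι) :
    α ∈ Cyc.Zk (CohB1.ProjSpace n k) δ m := fun x hx => by
  rw [hα, Cyc.subschemeFun, if_neg hx]

include hδ in
/-- A subscheme of dimension `m` and degree `d` is equivalent to `d` times the class of a linear subspace. -/
theorem ratEquiv_of_intNum (I : (CohB1.ProjSpace n k).IdealSheafData) {m N : ℕ} (hN : m + N = n)
    (hdim : topologicalKrullDim I.subscheme = m) {d : ℤ}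
    (hdeg : FGA.intNum k (CohB1.ProjSpace n k) m (fun _ : Fin m => Twist.twistProjSpace n k (-1))
      (ClSub.quotMod I) = d)
    (α : AlgebraicCycle (CohB1.ProjSpace n k) ℤ) (hα : ⇑α = Cyc.subschemeFun δ m I.subschemeι) :
    Cyc.RatEquiv δ m α (d • gen hδ N) := by
  have h := ratEquiv_capDeg hδ hN (subscheme_mem_Zk I.subschemeι α hα)
  rwa [← intNum_eq_capDeg hδ I.subschemeι hdim α hα, hdeg] at h

end Groth.Agent.H28.PnCyc

end
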