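import Groth.Agent.H23.ProjBd.Stratum
import Groth.Agent.H23.ProjBd.Linear

/-!
# The cycles of an atlas lie on the linear subbundles
-/

set_option autoImplicit false
set_option linter.style.haveILetI false
set_option linter.unusedSectionVars false
set_option backward.isDefEq.respectTransparency false
set_option backward.isDefEq.respectTransparency.types false

universe u

open CategoryTheory AlgebraicGeometry TopologicalSpace Opposite

noncomputable section

namespace Groth.Agent.H28.PnCyc

open Groth.Agent Groth.Agent.AModX Groth.Agent.H23 Groth.Agent.H23.ProjBd RatSec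

variable {X P : Scheme.{u}} {p : P ⟶ X} {O1 : P.Modules} {n : ℕ} (A : Atlas p O1 n)
  (S : Fin (n + 1) → Γ(O1, ⊤)) (hS : ∀ x l, (A.coords x).s l = res O1 le_top (S l))

include hS in
theorem cs_eq_cls (x : X) (l : Fin (n + 1)) (z : P) (hz : p z ∈ A.nhd x) :
    (A.coords x).cs l z hz = cls O1 z (O1.presheaf.germ ⊤ z trivial (S l)) := by
  rw [Coords.cs, Coords.sg, hS]
  exact congrArg (cls O1 z) (O1.presheaf.germ_res_apply _ _ _ _)

include hS in
/-- Vanishing passes to specialisations. -/
theorem cls_eq_zero_of_specializes {l : Fin (n + 1)} {ζ x : P} (h : ζ ⤳ x)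
    (h0 : cls O1 ζ (O1.presheaf.germ ⊤ ζ trivial (S l)) = 0) :
    cls O1 x (O1.presheaf.germ ⊤ x trivial (S l)) = 0 := by
  by_contra hne
  have hx := ((A.coords (p x)).mem_W_iff l x (A.mem_nhd _)).2 (by rw [cs_eq_cls A S hS]; exact hne)
  have hζ := h.mem_open ((A.coords (p x)).W l).2 hx
  have h1 := (A.coords (p x)).cs_self_ne_zero l ζ hζ
  rw [cs_eq_cls A S hS] at h1
  exact h1 h0

variable [IsLocallyNoetherian X] [IsLocallyNoetherian P] [LocallyOfFiniteType p] {δP : P → ℤ} {δ : X → ℤ}
  (hd : Cyc.IsDimFun P δP) (hδ : Cyc.DeltaCompat p δP δ)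

include hS in
/-- The cycles lie on the linear subbundles. -/
theorem vanish_of_cycle (α : AlgebraicCycle X ℤ) : ∀ (i : ℕ), i ≤ n → ∀ x, A.cycle hd hδ α i x ≠ 0 →
    ∀ l : Fin (n + 1), (l : ℕ) < i → cls O1 x (O1.presheaf.germ ⊤ x trivial (S l)) = 0 := by
  classical
  intro i
  induction i with
  | zero => intro _ x _ l hl; omega
  | succ i ih =>
    intro hi x hx l hl
    obtain ⟨ζ, hζ⟩ : ∃ ζ, A.cycle hd hδ α i ζ * Cyc.secDivFun δP O1 ζ (A.sec i ζ) x ≠ 0 := by
      by_contra hn
      push Not at hn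
      exact hx (finsum_eq_zero_of_forall_eq_zero hn)
    have hζx : ζ ⤳ x := by
      by_contra hn
      exact hζ (by simp [Cyc.secDivFun, hn])
    rcases Nat.lt_succ_iff_lt_or_eq.1 hl with hlt | heq
    · exact cls_eq_zero_of_specializes A S hS hζx (ih (by omega) ζ (left_ne_zero_of_mul hζ) l hlt)
    by_contra hne
    refine right_ne_zero_of_mul hζ ?_
    subst heq
    have hxW := ((A.coords (p x)).mem_W_iff _ x (A.mem_nhd _)).2 (by rw [cs_eq_cls A S hS]; exact hne)
    have hgen : IsGen (O1.presheaf.germ ⊤ x trivial (S l)) := by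
      have := (A.coords (p x)).isGen_sg _ x hxW
      rw [Coords.sg, hS] at this
      rwa [show O1.presheaf.germ (p ⁻¹ᵁ A.nhd (p x)) x _ (res O1 le_top (S l)) =
        O1.presheaf.germ ⊤ x trivial (S l) from O1.presheaf.germ_res_apply _ _ _ _] at this
    have hζne : (A.coords (p ζ)).cs l ζ (A.mem_nhd _) ≠ 0 := by
      rw [cs_eq_cls A S hS]
      intro h0
      exact hne (cls_eq_zero_of_specializes A S hS hζx h0)
    have hsec : A.sec (l : ℕ) ζ = (1 : P.presheaf.stalk ζ) • cls O1 ζ (O1.presheaf.stalkSpecializes hζx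
        (O1.presheaf.germ ⊤ x trivial (S l))) := by
      rw [Atlas.sec, dif_pos ⟨l.2, hζne⟩, one_smul, TopCat.Presheaf.germ_stalkSpecializes_apply,
        cs_eq_cls A S hS]
    rw [secDivFun_eq A.invertible hd hζx hgen.1 hsec (by rw [map_one]; exact one_ne_zero), map_one]
    unfold Cyc.divFun
    split_ifs with h
    · exact CycLib.ordAt_one hd h.1 h.2
    · rfl

include hS hd hδ in
/-- Outside the range of the formula for the cycles they vanish. -/
theorem cycle_eq_zero {α : AlgebraicCycle X ℤ} {j : ℤ} (hα : α ∈ Cyc.Zk X δ j) {i : ℕ}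
    (hi : i ≤ n) {z : P} (hz : δ (p z) < j) : A.cycle hd hδ α i z = 0 := by
  by_contra h
  obtain ⟨η, hη⟩ := (A.coords (p z)).exists_isEta (A.mem_nhd _) hi
  have h1 := CycLib.delta_le hd (hη.gen z (A.mem_nhd _) specializes_rfl fun hz' l hl => by
    rw [cs_eq_cls A S hS]
    exact vanish_of_cycle A S hS hd hδ α i hi z h l hl)
  have h2 := hη.delta_eq _ (A.mem_nhd _) hd hδ hi
  have h3 : δP z = j + n - i := by_contra fun h3 =>
    h (capIter_mem_Zk A.invertible hd (A.hasCoords.pullCycle_mem_Zk hd hδ hα) A.sec A.sec_ne_zero i z h3)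
  push_cast [Nat.cast_sub hi] at h2
  omega

end Groth.Agent.H28.PnCyc

end
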