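import Groth.Agent.H28.PnCyc.Linear
import Groth.Agent.H28.PnCyc.VanishCycle
import Groth.Agent.H23.ProjBd.BaseChange
import Groth.Agent.H23.StalkIdeal

/-!
# Products with a linear subspace of projective space
-/

set_option autoImplicit false
set_option linter.style.haveILetI false
set_option linter.unusedSectionVars false
set_option linter.overlappingInstances false
set_option backward.isDefEq.respectTransparency false
set_option backward.isDefEq.respectTransparency.types false

universe u

open CategoryTheory CategoryTheory.Limits AlgebraicGeometry TopologicalSpace Opposite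

noncomputable section

namespace Groth.Agent.H28.PnCyc

open Groth.Agent Groth.Agent.AModX Groth.Agent.H23 Groth.Agent.H23.ProjBd RatSec

attribute [local instance] MvPolynomial.gradedAlgebra

variable {k : Type u} [Field k] {n : ℕ} {X : Scheme.{u}} (f : X ⟶ Spec (CommRingCat.of k))

/-- `X × P^n`. -/
abbrev XP (n : ℕ) : Scheme.{u} := pullback f (CohB1.ProjSpace.toSpec n k)

/-- The pullback of `O(1)`. -/
abbrev O1 (n : ℕ) : (XP f n).Modules :=
  (Scheme.Modules.pullback (pullback.snd f (CohB1.ProjSpace.toSpec n k))).obj (Twist.twistProjSpace n k 1)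

theorem isPullback_sq : IsPullback (pullback.snd f (CohB1.ProjSpace.toSpec n k))
    (pullback.fst f (CohB1.ProjSpace.toSpec n k)) (CohB1.ProjSpace.toSpec n k) f :=
  (IsPullback.of_hasPullback f (CohB1.ProjSpace.toSpec n k)).flip

instance : IsProper (pullback.fst f (CohB1.ProjSpace.toSpec n k)) :=
  MorphismProperty.pullback_fst _ _ inferInstance

instance [IsLocallyNoetherian X] : IsLocallyNoetherian (XP f n) :=
  LocallyOfFiniteType.isLocallyNoetherian (pullback.fst f (CohB1.ProjSpace.toSpec n k))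

theorem hasCoordsX : HasCoords (pullback.fst f (CohB1.ProjSpace.toSpec n k)) (O1 f n) n :=
  HasCoords.baseChange (isPullback_sq f) (hasCoords k n)

theorem stalkIdeal_eq_sI {Z : Scheme.{u}} (I : Z.IdealSheafData) (z : Z) :
    IntMult.stalkIdeal I z = StalkIdeal.sI I z := by
  obtain ⟨_, ⟨U, hU, rfl⟩, hzU, -⟩ := Z.isBasis_affineOpens.exists_subset_of_mem_open (Set.mem_univ z) isOpen_univ
  rw [MultCM.stalkIdeal_eq I ⟨U, hU⟩ hzU, StalkIdeal.sI_eq I ⟨U, hU⟩ hzU]

theorem stalkIdeal_mono {Z : Scheme.{u}} {I J : Z.IdealSheafData} (h : I ≤ J) (z : Z) :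
    IntMult.stalkIdeal I z ≤ IntMult.stalkIdeal J z :=
  iSup₂_mono fun V _ => Ideal.map_mono (h V)

variable [IsLocallyNoetherian X] {δP : XP f n → ℤ} {δ : X → ℤ} (hd : Cyc.IsDimFun (XP f n) δP)
  (hδ : Cyc.DeltaCompat (pullback.fst f (CohB1.ProjSpace.toSpec n k)) δP δ)

include hd hδ in
/-- The cycle of the product of a subvariety with a linear subspace. -/
theorem prod_linear_ratEquiv (hdX : Cyc.IsDimFun X δ) {N : ℕ} (hN : N ≤ n) (ℓ : Fin N → LefPen.Form n k 1)
    (hℓ : LinearIndependent k ℓ) (J : X.IdealSheafData) {ξ : X} {j : ℤ} (hξj : δ ξ = j)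
    (hJ : ∀ x, x ∈ (J.support : Set X) ↔ ξ ⤳ x)
    (hJmax : IsLocalRing.maximalIdeal (X.presheaf.stalk ξ) ≤ IntMult.stalkIdeal J ξ)
    (lamX : AlgebraicCycle X ℤ) (hlamX : ⇑lamX = Cyc.subschemeFun δ j J.subschemeι)
    (θ : AlgebraicCycle (XP f n) ℤ) {e : ℤ} (he : e = j + n - N)
    (hθ : ⇑θ = Cyc.subschemeFun δP e (J.comap (pullback.fst f (CohB1.ProjSpace.toSpec n k)) ⊔
      (LefPen.ciIdeal (a := fun _ : Fin N => 1) ℓ).comap (pullback.snd f (CohB1.ProjSpace.toSpec n k))).subschemeι) :
    Cyc.RatEquiv δP e θ ((hasCoordsX f).cl hd hδ N lamX) := by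
  classical
  obtain ⟨c, hsupp, hX⟩ := exists_adapted hN ℓ hℓ
  let p := pullback.fst f (CohB1.ProjSpace.toSpec n k)
  let g := pullback.snd f (CohB1.ProjSpace.toSpec n k)
  let I := LefPen.ciIdeal (a := fun _ : Fin N => 1) ℓ
  choose V hV hxV hVtop using fun x : X => exists_isAffineOpen_mem_and_subset (x := x) (U := (⊤ : X.Opens)) trivial
  let A : Atlas p (O1 f n) n :=
    ⟨(hasCoordsX f).invertible, V, hxV, fun x => bcCoords (isPullback_sq f) c (hV x) le_top⟩
  let S : Fin (n + 1) → Γ(O1 f n, ⊤) := fun l => QCoh.pullSec g (Twist.twistProjSpace n k 1) le_top (c.s l)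
  have hS : ∀ x l, (A.coords x).s l = res (O1 f n) le_top (S l) := fun x l =>
    (PBlow.res_pullSec g le_top le_top (c.s l)).symm
  have hiff : ∀ (l : Fin (n + 1)) (z : XP f n), cls (O1 f n) z ((O1 f n).presheaf.germ ⊤ z trivial (S l)) = 0 ↔
      c.cs l (g z) trivial = 0 := by
    intro l z
    rw [← cs_eq_cls A S hS (p z) l z (hxV _), ← not_iff_not, ← ne_eq, ← ne_eq,
      ← (A.coords (p z)).mem_W_iff, ← c.mem_W_iff]
    exact ⟨fun h => h.1, fun h => ⟨h, hxV _⟩⟩
  have hvan : ∀ (x : X) (z : XP f n), p z ∈ V x → ((A.coords x).Vanish N z ↔ c.Vanish N (g z)) := by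
    intro x z hz
    constructor
    · intro h _ l hl
      rw [← hiff, ← cs_eq_cls A S hS x l z hz]
      exact h hz l hl
    · intro h hz' l hl
      rw [cs_eq_cls A S hS, hiff]
      exact h trivial l hl
  let T := (J.comap p ⊔ I.comap g)
  have hTsupp : ∀ z, z ∈ (T.support : Set (XP f n)) ↔ ξ ⤳ p z ∧ c.Vanish N (g z) := by
    intro z
    rw [Scheme.IdealSheafData.support_sup, Scheme.IdealSheafData.support_comap,
      Scheme.IdealSheafData.support_comap, ← hJ, ← hsupp]
    exact Iff.rfl
  obtain ⟨η, hη⟩ := (A.coords ξ).exists_isEta (hxV ξ) hN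
  have hδη : δP η = e := by
    rw [hη.delta_eq _ (hxV ξ) hd hδ hN, hξj, he]
    push_cast [Nat.cast_sub hN]
    ring
  have hηT : η ∈ (T.support : Set (XP f n)) :=
    (hTsupp η).2 ⟨specializes_of_eq hη.apply_eq.symm, (hvan ξ η ((hη.mem _).2 (hxV ξ))).1 hη.vanish⟩
  -- the stalk at the generic point
  have hmax : IsLocalRing.maximalIdeal ((XP f n).presheaf.stalk η) ≤ IntMult.stalkIdeal T η := by
    obtain ⟨hW, hpr⟩ := hη.mem_W (A.coords ξ) (j := Fin.last n) (by simp; omega) (hxV ξ)
    letI := (XP f n).presheaf.algebra_section_stalk ⟨η, hW⟩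
    haveI := ((A.coords ξ).affine (Fin.last n)).isLocalization_stalk ⟨η, hW⟩
    rw [← IsLocalization.AtPrime.map_eq_maximalIdeal (((A.coords ξ).affine (Fin.last n)).primeIdealOf ⟨η, hW⟩).asIdeal
      ((XP f n).presheaf.stalk η), Ideal.map_le_iff_le_comap]
    intro t ht
    obtain ⟨F, rfl⟩ := ((A.coords ξ).bij _).2 t
    have hF : F ∈ ((A.coords ξ).pU (hxV ξ)).map MvPolynomial.C ⊔
        Ideal.span ((MvPolynomial.X : Fin n → MvPolynomial (Fin n) _) '' Coords.Sset (Fin.last n) N) := by
      rw [← J_eq, ← hpr]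
      exact ((A.coords ξ).pr_eq_comap _ η hW).symm ▸ ht
    have hle : ((A.coords ξ).pU (hxV ξ)).map MvPolynomial.C ⊔
        Ideal.span ((MvPolynomial.X : Fin n → MvPolynomial (Fin n) _) '' Coords.Sset (Fin.last n) N) ≤
        Ideal.comap ((A.coords ξ).ψ (Fin.last n)) (Ideal.comap (algebraMap _ _) (IntMult.stalkIdeal T η)) := by
      refine sup_le (Ideal.map_le_iff_le_comap.2 fun a ha => ?_) (Ideal.span_le.2 ?_)
      · refine Ideal.mem_comap.2 (Ideal.mem_comap.2 (Ideal.mem_comap.2 ?_))
        show (XP f n).presheaf.germ ((A.coords ξ).W (Fin.last n)) η hW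
          ((A.coords ξ).ψ (Fin.last n) (MvPolynomial.C a)) ∈ _
        rw [(A.coords ξ).ψ_C]
        refine stalkIdeal_mono le_sup_left η ?_
        rw [stalkIdeal_eq_sI, StalkIdeal.sI_comap, ← stalkIdeal_eq_sI]
        have hpη : p η ∈ V ξ := (A.coords ξ).le _ hW
        have h1 : (XP f n).presheaf.germ ((A.coords ξ).W (Fin.last n)) η hW
            (p.appLE (V ξ) ((A.coords ξ).W (Fin.last n)) ((A.coords ξ).le _) a) =
            p.stalkMap η (X.presheaf.germ (V ξ) (p η) hpη a) := by
          rw [Scheme.Hom.germ_stalkMap_apply]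
          exact (XP f n).presheaf.germ_res_apply (homOfLE ((A.coords ξ).le _)) η hW (p.app (V ξ) a)
        erw [h1]
        refine Ideal.mem_map_of_mem _ ?_
        have hmax' : IsLocalRing.maximalIdeal (X.presheaf.stalk (p η)) ≤ IntMult.stalkIdeal J (p η) :=
          hη.apply_eq.symm ▸ hJmax
        refine hmax' ?_
        rw [← IsLocalRing.residue_eq_zero_iff]
        show X.evaluation (V ξ) (p η) hpη a = 0
        rw [evaluation_eq_zero_iff (hV ξ)]
        simpa only [hη.apply_eq] using ha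
      · rintro _ ⟨l, hl, rfl⟩
        refine Ideal.mem_comap.2 (Ideal.mem_comap.2 ?_)
        show (XP f n).presheaf.germ ((A.coords ξ).W (Fin.last n)) η hW
          ((A.coords ξ).ψ (Fin.last n) (MvPolynomial.X l)) ∈ _
        refine stalkIdeal_mono le_sup_right η ?_
        rw [stalkIdeal_eq_sI, StalkIdeal.sI_comap, ← stalkIdeal_eq_sI]
        have hgW : g η ∈ c.W (Fin.last n) := hW.1
        have h1 : (A.coords ξ).ψ (Fin.last n) (MvPolynomial.X l) =
            g.appLE (c.W (Fin.last n)) ((A.coords ξ).W (Fin.last n)) inf_le_left (c.ψ _ (MvPolynomial.X l)) :=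
          MvPolynomial.eval₂Hom_X' _ _ _
        rw [h1]
        have h2 : (XP f n).presheaf.germ ((A.coords ξ).W (Fin.last n)) η hW
            (g.appLE (c.W (Fin.last n)) ((A.coords ξ).W (Fin.last n)) inf_le_left (c.ψ _ (MvPolynomial.X l))) =
            g.stalkMap η ((CohB1.ProjSpace n k).presheaf.germ (c.W (Fin.last n)) (g η) hgW
              (c.ψ _ (MvPolynomial.X l))) := by
          rw [Scheme.Hom.germ_stalkMap_apply]
          exact (XP f n).presheaf.germ_res_apply (homOfLE inf_le_left) η hW (g.app (c.W (Fin.last n)) _)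
        erw [h2]
        exact Ideal.mem_map_of_mem _ (hX (g η) hgW l (by simpa [Coords.Sset] using hl))
    exact hle hF
  -- the cycle of the atlas
  have hlamj : lamX ∈ Cyc.Zk X δ j := fun x hx => by rw [hlamX, Cyc.subschemeFun, if_neg hx]
  have hlamval : ∀ x, j ≤ δ x → lamX x = if x = ξ then 1 else 0 := by
    intro x _
    rw [hlamX]
    by_cases hx : x = ξ
    · subst hx
      rw [if_pos rfl, ← hξj]
      exact subschemeFun_eq_one _ ((hJ x).2 specializes_rfl) hJmax δ
    · rw [if_neg hx]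
      exact subschemeFun_eq_zero _ δ j fun h1 h2 => hx (CycLib.eq_of_delta_le hdX ((hJ x).1 h2) (by omega)).symm
  have hcyc : θ = A.cycle hd hδ lamX N := by
    ext z
    rw [hθ]
    by_cases hj : j ≤ δ (p z)
    · rw [(A.cycle_apply hd hδ hdX hlamj N hN).2 z hj, hlamval _ hj]
      by_cases hzη : z = η
      · subst hzη
        have hE : (A.coords (p z)).IsEta (p z) N z := (congrArg (fun t => (A.coords t).IsEta t N z) hη.apply_eq).mpr hη
        rw [if_pos hE, if_pos hη.apply_eq, ← hδη]
        exact subschemeFun_eq_one T hηT hmax δP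
      · have hR : (if (A.coords (p z)).IsEta (p z) N z then if p z = ξ then (1 : ℤ) else 0 else 0) = 0 := by
          split_ifs with h1 h2
          · exact absurd (((congrArg (fun t => (A.coords t).IsEta t N z) h2).mp h1).unique _ (hxV ξ) hη) hzη
          · rfl
          · rfl
        rw [hR]
        refine subschemeFun_eq_zero T δP e fun h1 h2 => hzη ?_
        obtain ⟨h3, h4⟩ := (hTsupp z).1 h2
        have h5 : p z = ξ := (CycLib.eq_of_delta_le hdX h3 (by omega)).symm
        have hz : p z ∈ V ξ := h5 ▸ hxV ξ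
        exact (CycLib.eq_of_delta_le hd (hη.gen z hz (specializes_of_eq h5.symm) ((hvan ξ z hz).2 h4))
          (by omega)).symm
    · rw [cycle_eq_zero A S hS hd hδ hlamj hN (not_le.1 hj)]
      refine subschemeFun_eq_zero T δP e fun h1 h2 => hj ?_
      obtain ⟨-, h4⟩ := (hTsupp z).1 h2
      obtain ⟨η', hη'⟩ := (A.coords (p z)).exists_isEta (hxV _) hN
      have h5 := CycLib.delta_le hd (hη'.gen z (hxV _) specializes_rfl ((hvan (p z) z (hxV _)).2 h4))
      rw [hη'.delta_eq _ (hxV _) hd hδ hN, h1, he] at h5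
      push_cast [Nat.cast_sub hN] at h5
      omega
  have h := ratEquiv_capIter A.invertible hd (A.hasCoords.pullCycle_mem_Zk hd hδ hlamj)
    (β' := (hasCoordsX f).pullCycle hd hδ lamX)
    (RatOn.ratEquiv (T := Set.univ) (RatOn.congr (RatOn.zero _) fun x => sub_self _))
    A.sec (fun _ => (hasCoordsX f).sec 0) A.sec_ne_zero (fun _ => (hasCoordsX f).sec_ne_zero 0) N
  rw [← he] at h
  rw [hcyc, HasCoords.cl_eq]
  exact h

end Groth.Agent.H28.PnCyc

end
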