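import Groth.Agent.H28.PnCyc.Prod
import Groth.Agent.H28.PnCyc.Complement
import Groth.Agent.H23.ProjBd.Indep
import Groth.Agent.H23.ChowDesc

/-!
# The Chow groups of a product of two projective spaces
-/

set_option autoImplicit false
set_option linter.style.haveILetI false
set_option linter.unusedSectionVars false
set_option linter.overlappingInstances false
set_option backward.isDefEq.respectTransparency false
set_option backward.isDefEq.respectTransparency.types false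

universe u

open CategoryTheory CategoryTheory.Limits AlgebraicGeometry TopologicalSpace

noncomputable section

namespace Groth.Agent.H28.PnCyc

open Groth.Agent Groth.Agent.H23 Groth.Agent.H23.ProjBd

attribute [local instance] MvPolynomial.gradedAlgebra

variable {k : Type u} [Field k] {r s : ℕ}

/-- `P^r × P^s`. -/
abbrev PP (k : Type u) [Field k] (r s : ℕ) : Scheme.{u} := XP (CohB1.ProjSpace.toSpec r k) s

variable (k r) in
/-- The dimension function of `P^r`. -/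
def dl : CohB1.ProjSpace r k → ℤ := fun z => (fun _ => (0 : ℤ)) (CohB1.ProjSpace.toSpec r k z) +
  FibDim.rd (CohB1.ProjSpace.toSpec r k) z

theorem hdl : Cyc.DeltaCompat (CohB1.ProjSpace.toSpec r k) (dl k r) (fun _ => 0) :=
  ChowDesc.deltaCompat_rd (CohB1.ProjSpace.toSpec r k) (fun _ => (0 : ℤ))

theorem deltaCompat_fst {X : Scheme.{u}} {p : X ⟶ Spec (CommRingCat.of k)} [LocallyOfFiniteType p]
    {δX : X → ℤ} (hX : Cyc.DeltaCompat p δX (fun _ => 0)) {δ : XP p s → ℤ}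
    (hδ : Cyc.DeltaCompat (pullback.fst p (CohB1.ProjSpace.toSpec s k) ≫ p) δ (fun _ => 0)) :
    Cyc.DeltaCompat (pullback.fst p (CohB1.ProjSpace.toSpec s k)) δ δX := by
  have h1 := ChowDesc.deltaCompat_rd (pullback.fst p (CohB1.ProjSpace.toSpec s k)) δX
  rw [ChowDesc.deltaCompat_unique (pullback.fst p (CohB1.ProjSpace.toSpec s k) ≫ p) hδ
    (Bivar.deltaCompat_comp _ p _ _ _ h1 hX)]
  exact h1

variable {δ : PP k r s → ℤ}
  (hδ : Cyc.DeltaCompat (pullback.fst (CohB1.ProjSpace.toSpec r k) (CohB1.ProjSpace.toSpec s k) ≫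
    CohB1.ProjSpace.toSpec r k) δ (fun _ => 0))

include hδ in
theorem isSetupPP : Cyc.IsSetup (PP k r s) δ := SetupLFT.isSetup _ (CycLib.isSetup_spec_field k) hδ

include hδ in
theorem isDimFunPP : Cyc.IsDimFun (PP k r s) δ := (isSetupPP hδ).2.2

/-- The class of `L × M` for linear subspaces of codimensions `N'` and `N`. -/
def gen₂ (N N' : ℕ) : AlgebraicCycle (PP k r s) ℤ :=
  (hasCoordsX (CohB1.ProjSpace.toSpec r k)).cl (isDimFunPP hδ) (deltaCompat_fst hdl hδ) N (gen (hdl (k := k) (r := r)) N')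

include hδ in
/-- The cycle of a product of two linear subspaces. -/
theorem linear_prod_ratEquiv {a b : ℕ} {e : ℤ} (ha : a ≤ r) (hb : b ≤ s) (he : e = ((a + b : ℕ) : ℤ))
    (ℓ : Fin (r - a) → LefPen.Form r k 1) (hℓ : LinearIndependent k ℓ)
    (m : Fin (s - b) → LefPen.Form s k 1) (hm : LinearIndependent k m) (θ : AlgebraicCycle (PP k r s) ℤ)
    (hθ : ⇑θ = Cyc.subschemeFun δ e
      ((LefPen.ciIdeal (a := fun _ : Fin (r - a) => 1) ℓ).comap
          (pullback.fst (CohB1.ProjSpace.toSpec r k) (CohB1.ProjSpace.toSpec s k)) ⊔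
        (LefPen.ciIdeal (a := fun _ : Fin (s - b) => 1) m).comap
          (pullback.snd (CohB1.ProjSpace.toSpec r k) (CohB1.ProjSpace.toSpec s k))).subschemeι) :
    Cyc.RatEquiv δ e θ (gen₂ hδ (s - b) (r - a)) := by
  have hd := isDimFunPP hδ
  have hδ' := deltaCompat_fst (hdl (k := k) (r := r)) hδ
  have hdX := isDimFun (hdl (k := k) (r := r))
  obtain ⟨ξ, hξ, hJ, hJmax⟩ := exists_generic (hdl (k := k) (r := r)) (Nat.add_sub_cancel' ha) ℓ hℓ
  obtain ⟨L, hL⟩ := exists_cycle (LefPen.ciIdeal (a := fun _ : Fin (r - a) => 1) ℓ) (dl k r) (a : ℤ)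
  have h1 := prod_linear_ratEquiv (CohB1.ProjSpace.toSpec r k) hd hδ' hdX (N := s - b) (Nat.sub_le _ _) m hm
    (LefPen.ciIdeal (a := fun _ : Fin (r - a) => 1) ℓ) (ξ := ξ) (j := (a : ℤ)) hξ hJ hJmax L hL θ
    (e := e) (by rw [he]; push_cast [Nat.cast_sub hb]; ring) hθ
  have h2 := linear_ratEquiv_gen (hdl (k := k) (r := r)) (Nat.add_sub_cancel' ha) ℓ hℓ L hL
  have hmem : L - gen (hdl (k := k) (r := r)) (r - a) ∈ Cyc.Zk (CohB1.ProjSpace r k) (dl k r) (a : ℤ) := fun x hx => by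
    rw [Function.locallyFinsuppWithin.coe_sub, Pi.sub_apply, subscheme_mem_Zk _ L hL x hx,
      gen_mem (hdl (k := k) (r := r)) (by push_cast [Nat.cast_sub ha]; ring) x hx, sub_zero]
  have h3 := (hasCoordsX (CohB1.ProjSpace.toSpec r k)).cl_ratEquivZero hd hδ' hdX hmem h2 (s - b)
  rw [map_sub, show (a : ℤ) + s - ((s - b : ℕ) : ℤ) = e by rw [he]; push_cast [Nat.cast_sub hb]; ring] at h3
  exact RatOn.trans hd h1 h3

include hδ in
theorem gen₂_mem {a b : ℕ} {e : ℤ} (ha : a ≤ r) (hb : b ≤ s) (he : e = ((a + b : ℕ) : ℤ)) :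
    gen₂ hδ (s - b) (r - a) ∈ Cyc.Zk (PP k r s) δ e := by
  have := (hasCoordsX (CohB1.ProjSpace.toSpec r k)).cl_mem_Zk (isDimFunPP hδ) (deltaCompat_fst hdl hδ)
    (gen_mem (hdl (k := k) (r := r)) (N := r - a) (m := (a : ℤ)) (by push_cast [Nat.cast_sub ha]; ring)) (s - b)
  rwa [show (a : ℤ) + s - ((s - b : ℕ) : ℤ) = e by rw [he]; push_cast [Nat.cast_sub hb]; ring] at this

theorem smul_gen₂ (N N' : ℕ) (c : ℤ) :
    (hasCoordsX (CohB1.ProjSpace.toSpec r k)).cl (isDimFunPP hδ) (deltaCompat_fst hdl hδ) N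
      (c • gen (hdl (k := k) (r := r)) N') = c • gen₂ hδ N N' :=
  map_zsmul _ _ _

include hδ in
/-- Every cycle is a combination of products of linear subspaces. -/
theorem exists_combination {c : ℕ} {β : AlgebraicCycle (PP k r s) ℤ} (hβ : β ∈ Cyc.Zk (PP k r s) δ c) :
    ∃ nn : Fin (r + 1) → ℤ, (∀ i : Fin (r + 1), (c < (i : ℕ) ∨ s + (i : ℕ) < c) → nn i = 0) ∧
      Cyc.RatEquiv δ (c : ℤ) β (∑ i : Fin (r + 1), nn i • gen₂ hδ (s - (c - (i : ℕ))) (r - (i : ℕ))) := by
  classical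
  have hd := isDimFunPP hδ
  have hδ' := deltaCompat_fst (hdl (k := k) (r := r)) hδ
  have hdX := isDimFun (hdl (k := k) (r := r))
  have hh := hasCoordsX (n := s) (CohB1.ProjSpace.toSpec r k)
  have e : ((c : ℤ) - s) + s = c := sub_add_cancel _ _
  have hdle : ∀ x, 0 ≤ dl k r x ∧ dl k r x ≤ r := fun x => ⟨by simp [dl], delta_le_dim (hdl (k := k) (r := r)) x⟩
  have hsupp : ∀ x, β x ≠ 0 → dl k r (pullback.fst (CohB1.ProjSpace.toSpec r k) (CohB1.ProjSpace.toSpec s k) x) <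
      (c : ℤ) - s + ((s + 1 : ℕ) : ℤ) := by
    intro x hx
    obtain ⟨m, -, hm⟩ := hδ' x
    have : δ x = c := by_contra fun h => hx (hβ x h)
    push_cast
    omega
  obtain ⟨α, hα, hspan⟩ := hh.span hd hdX hδ' (k := (c : ℤ) - s) (s + 1) le_rfl β (by rwa [e]) hsupp
  rw [e] at hspan
  let d : Fin (s + 1) → ℤ := fun j => capDeg (hdl (k := k) (r := r)) (c + (j : ℕ) - s) (α j)
  let F : Fin (s + 1) → AlgebraicCycle (PP k r s) ℤ := fun j => ∑ i : Fin (r + 1),
    (if (i : ℕ) + s = c + (j : ℕ) then d j else 0) • gen₂ hδ (s - (c - (i : ℕ))) (r - (i : ℕ))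
  have hterm : ∀ j : Fin (s + 1), hh.cl hd hδ' (j : ℕ) (α j) - F j ∈ ratZero hd (c : ℤ) := by
    intro j
    by_cases hj : ∃ i : Fin (r + 1), (i : ℕ) + s = c + (j : ℕ)
    · obtain ⟨i, hi⟩ := hj
      have hF : F j = d j • gen₂ hδ (s - (c - (i : ℕ))) (r - (i : ℕ)) := by
        simp only [F]
        rw [Finset.sum_eq_single i (fun b _ hb => by
          rw [if_neg fun h => hb (Fin.ext (by omega)), zero_smul]) (fun h => absurd (Finset.mem_univ i) h), if_pos hi]
      have hai : (c : ℤ) - s + ((j : ℕ) : ℤ) = ((i : ℕ) : ℤ) := by omega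
      have hαi : α j ∈ Cyc.Zk (CohB1.ProjSpace r k) (dl k r) ((i : ℕ) : ℤ) := hai ▸ hα j
      have hdj : d j = capDeg (hdl (k := k) (r := r)) (i : ℕ) (α j) := by
        show capDeg (hdl (k := k) (r := r)) _ (α j) = _
        rw [show c + (j : ℕ) - s = (i : ℕ) by omega]
      have h1 := ratEquiv_capDeg (hdl (k := k) (r := r)) (Nat.add_sub_cancel' (Nat.lt_succ_iff.1 i.2)) hαi
      have hmem : α j - d j • gen (hdl (k := k) (r := r)) (r - (i : ℕ)) ∈
          Cyc.Zk (CohB1.ProjSpace r k) (dl k r) ((i : ℕ) : ℤ) := fun x hx => by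
        rw [Function.locallyFinsuppWithin.coe_sub, Pi.sub_apply, Function.locallyFinsuppWithin.coe_zsmul,
          Pi.smul_apply, hαi x hx, gen_mem (hdl (k := k) (r := r)) (N := r - (i : ℕ))
            (m := ((i : ℕ) : ℤ)) (by push_cast [Nat.cast_sub (Nat.lt_succ_iff.1 i.2)]; ring) x hx, smul_zero, sub_zero]
      rw [← hdj] at h1
      have h2 := hh.cl_ratEquivZero hd hδ' hdX hmem h1 (j : ℕ)
      rw [map_sub, map_zsmul, show ((i : ℕ) : ℤ) + s - ((j : ℕ) : ℤ) = c by omega] at h2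
      rw [hF, show s - (c - (i : ℕ)) = (j : ℕ) by omega]
      exact h2
    · push Not at hj
      have hF : F j = 0 := Finset.sum_eq_zero fun i _ => by rw [if_neg (hj i), zero_smul]
      have hα0 : α j = 0 := by
        ext x
        by_contra hne
        have h1 : dl k r x = (c : ℤ) - s + ((j : ℕ) : ℤ) := by_contra fun h => hne (hα j x h)
        obtain ⟨h2, h3⟩ := hdle x
        exact hj ⟨c + (j : ℕ) - s, by omega⟩ (show c + (j : ℕ) - s + s = c + (j : ℕ) by omega)
      rw [hF, hα0, map_zero, sub_zero]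
      exact zero_mem _
  refine ⟨fun i => ∑ j : Fin (s + 1), if (i : ℕ) + s = c + (j : ℕ) then d j else 0, fun i hi =>
    Finset.sum_eq_zero fun j _ => if_neg (by omega), ?_⟩
  have hsum := (ratZero hd (c : ℤ)).sum_mem fun j (_ : j ∈ Finset.univ) => hterm j
  rw [Finset.sum_sub_distrib] at hsum
  have h3 := (ratZero hd (c : ℤ)).add_mem (show _ ∈ ratZero hd (c : ℤ) from hspan) hsum
  rw [sub_add_sub_cancel, Finset.sum_comm] at h3
  simp only [Finset.sum_smul]
  exact h3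

include hδ in
/-- The products of linear subspaces are independent. -/
theorem combination_eq_zero {c : ℕ} (nn : Fin (r + 1) → ℤ)
    (hnn : ∀ i : Fin (r + 1), (c < (i : ℕ) ∨ s + (i : ℕ) < c) → nn i = 0)
    (h : Cyc.RatEquivZero δ (c : ℤ) (∑ i : Fin (r + 1), nn i • gen₂ hδ (s - (c - (i : ℕ))) (r - (i : ℕ)))) :
    ∀ i, nn i = 0 := by
  classical
  intro i₀
  by_contra hne
  have hcond : (i₀ : ℕ) ≤ c ∧ c ≤ s + (i₀ : ℕ) := by
    by_contra hc
    exact hne (hnn i₀ (by omega))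
  have hd := isDimFunPP hδ
  have hδ' := deltaCompat_fst (hdl (k := k) (r := r)) hδ
  have hh := hasCoordsX (n := s) (CohB1.ProjSpace.toSpec r k)
  let α : Fin (s + 1) → AlgebraicCycle (CohB1.ProjSpace r k) ℤ := fun j =>
    ∑ i : Fin (r + 1), (if (i : ℕ) + s = c + (j : ℕ) then nn i else 0) • gen (hdl (k := k) (r := r)) (r - (i : ℕ))
  have hα : ∀ j : Fin (s + 1), α j ∈ Cyc.Zk (CohB1.ProjSpace r k) (dl k r) ((c : ℤ) - s + ((j : ℕ) : ℤ)) := by
    intro j x hx
    show (α j) x = 0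
    simp only [α, Function.locallyFinsuppWithin.coe_sum, Finset.sum_apply,
      Function.locallyFinsuppWithin.coe_zsmul, Pi.smul_apply]
    refine Finset.sum_eq_zero fun i _ => ?_
    split_ifs with hi
    · rw [gen_mem (hdl (k := k) (r := r)) (N := r - (i : ℕ)) (m := (c : ℤ) - s + ((j : ℕ) : ℤ))
        (by push_cast [Nat.cast_sub (Nat.lt_succ_iff.1 i.2)]; omega) x hx, smul_zero]
    · rw [zero_smul]
  have hsum : (∑ j : Fin (s + 1), hh.cl hd hδ' (j : ℕ) (α j)) =
      ∑ i : Fin (r + 1), nn i • gen₂ hδ (s - (c - (i : ℕ))) (r - (i : ℕ)) := by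
    simp only [α, map_sum, map_zsmul]
    rw [Finset.sum_comm]
    refine Finset.sum_congr rfl fun i _ => ?_
    by_cases hi : (i : ℕ) ≤ c ∧ c ≤ s + (i : ℕ)
    · rw [Finset.sum_eq_single (⟨(i : ℕ) + s - c, by omega⟩ : Fin (s + 1))]
      · rw [if_pos (by simp; omega), show s - (c - (i : ℕ)) = (i : ℕ) + s - c by omega]
        rfl
      · intro j _ hj
        rw [if_neg fun h => hj (Fin.ext (by simp; omega)), zero_smul]
      · exact fun h => absurd (Finset.mem_univ _) h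
    · rw [hnn i (by omega), zero_smul]
      exact Finset.sum_eq_zero fun j _ => by rw [ite_self, zero_smul]
  have hind := hh.independent (isSetup (hdl (k := k) (r := r))) (isSetupPP hδ) hδ' (k := (c : ℤ) - s) α hα
    (fun _ _ => hh.sec 0) (fun _ _ => hh.sec_ne_zero 0)
    (fun j m => ⇑(capIter hh.invertible hd (hh.pullCycle hd hδ' (α j)) (fun _ => hh.sec 0) (fun _ => hh.sec_ne_zero 0) m))
    (fun _ => rfl) (fun _ _ => rfl) (∑ j : Fin (s + 1), hh.cl hd hδ' (j : ℕ) (α j))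
    (fun x => by
      rw [Function.locallyFinsuppWithin.coe_sum, Finset.sum_apply]
      exact Finset.sum_congr rfl fun j _ => by rw [HasCoords.cl_eq])
    (by rw [hsum, sub_add_cancel]; exact h) ⟨(i₀ : ℕ) + s - c, by omega⟩
  have e : (c : ℤ) - s + (((⟨(i₀ : ℕ) + s - c, by omega⟩ : Fin (s + 1)) : ℕ) : ℤ) = ((i₀ : ℕ) : ℤ) := by
    simp only
    omega
  have hαi : α ⟨(i₀ : ℕ) + s - c, by omega⟩ = nn i₀ • gen (hdl (k := k) (r := r)) (r - (i₀ : ℕ)) := by
    simp only [α]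
    rw [Finset.sum_eq_single i₀]
    · rw [if_pos (by omega)]
    · intro i _ hi
      rw [if_neg fun h => hi (Fin.ext (by omega)), zero_smul]
    · exact fun h => absurd (Finset.mem_univ _) h
  rw [hαi, e] at hind
  have hmem : nn i₀ • gen (hdl (k := k) (r := r)) (r - (i₀ : ℕ)) ∈
      Cyc.Zk (CohB1.ProjSpace r k) (dl k r) ((i₀ : ℕ) : ℤ) := fun x hx => by
    rw [Function.locallyFinsuppWithin.coe_zsmul, Pi.smul_apply, gen_mem (hdl (k := k) (r := r)) (N := r - (i₀ : ℕ))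
      (m := ((i₀ : ℕ) : ℤ)) (by push_cast [Nat.cast_sub (Nat.lt_succ_iff.1 i₀.2)]; ring) x hx, smul_zero]
  have h0 := capDeg_congr (hdl (k := k) (r := r)) hmem (b := 0) (by rw [Cyc.RatEquiv, sub_zero]; exact hind)
  rw [map_zsmul, map_zero, capDeg_gen (hdl (k := k) (r := r)) (Nat.add_sub_cancel' (Nat.lt_succ_iff.1 i₀.2)),
    smul_eq_mul, mul_one] at h0
  exact hne h0

end Groth.Agent.H28.PnCyc

end
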